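import Mathlib
import Cfsg.Agent.Lib.Transfer.Basic
import Cfsg.Agent.Lib.Basic.SylowUtil
import Cfsg.Agent.Lib.Basic.ConjCount
import Cfsg.Agent.Lib.Nilpotent.WielandtHall

/-!
# Conjugacy classes of `S`-elements

Basic counting tools for the number of conjugacy classes of `S`-elements (`S` a finite set of
primes) of a finite group: covering lemmas, the fibration over classes of `q`-elements, the
`S`-part of the order, the consequences of Wielandt's theorem for abelian Hall subgroups, and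
orbit representatives.
-/

set_option autoImplicit false

open Pointwise

namespace Cfsg.Agent.Lib.PiClasses

universe u

section defs

variable {X : Type u} [Group X]

/-- `x` is an `S`-element: every prime dividing its order lies in `S`. -/
def IsSElt (S : Finset ℕ) (x : X) : Prop := ∀ r : ℕ, r.Prime → r ∣ orderOf x → r ∈ S

/-- The number of conjugacy classes of `S`-elements. -/
noncomputable def kS (S : Finset ℕ) (X : Type u) [Group X] : ℕ :=
  Nat.card {C : ConjClasses X // ∃ x : X, ConjClasses.mk x = C ∧ IsSElt S x}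

/-- The `S`-part of the order. -/
noncomputable def mS (S : Finset ℕ) (X : Type u) [Group X] : ℕ :=
  ∏ r ∈ S, r ^ (Nat.card X).factorization r

theorem isSElt_coe {Z : Subgroup X} {S : Finset ℕ} {x : Z} :
    IsSElt S x ↔ IsSElt S (x : X) := by
  unfold IsSElt
  rw [Subgroup.orderOf_coe]

theorem isSElt_conj {S : Finset ℕ} {x : X} (g : X) (h : IsSElt S x) : IsSElt S (g * x * g⁻¹) := by
  intro r hr hd
  rw [show orderOf (g * x * g⁻¹) = orderOf x from
    (Cfsg.Agent.Lib.Basic.ConjCount.orderOf_eq_of_isConj (isConj_iff.mpr ⟨g, rfl⟩)).symm] at hd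
  exact h r hr hd

theorem isSElt_of_isConj {S : Finset ℕ} {x y : X} (hc : IsConj x y) (h : IsSElt S x) :
    IsSElt S y := by
  obtain ⟨g, rfl⟩ := isConj_iff.mp hc
  exact isSElt_conj g h

end defs

section cover

variable {X : Type u} [Group X] [Finite X]

/-- Cover lemma inside a subgroup. -/
theorem kS_subgroup_le (Z : Subgroup X) (S : Finset ℕ) (Y : Finset X)
    (h : ∀ x ∈ Z, IsSElt S x → ∃ y ∈ Y, ∃ c ∈ Z, c * x * c⁻¹ = y) : kS S Z ≤ Y.card := by
  classical
  have hex : ∀ C : {C : ConjClasses Z // ∃ x : Z, ConjClasses.mk x = C ∧ IsSElt S x},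
      ∃ y : Y, ∃ x : Z, ConjClasses.mk x = C.1 ∧ ∃ c ∈ Z, c * (x : X) * c⁻¹ = y := by
    rintro ⟨C, x, hx, hS⟩
    obtain ⟨y, hy, c, hc, he⟩ := h x x.2 (isSElt_coe.mp hS)
    exact ⟨⟨y, hy⟩, x, hx, c, hc, he⟩
  choose F x hx c hc he using hex
  have hF : Function.Injective F := by
    intro C C' hCC
    apply Subtype.ext
    rw [← hx C, ← hx C', ConjClasses.mk_eq_mk_iff_isConj, isConj_iff]
    refine ⟨⟨(c C')⁻¹ * c C, Z.mul_mem (Z.inv_mem (hc C')) (hc C)⟩, ?_⟩
    apply Subtype.ext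
    have h1 := he C
    have h2 := he C'
    rw [hCC] at h1
    have h3 : (c C) * (x C : X) * (c C)⁻¹ = (c C') * (x C' : X) * (c C')⁻¹ := h1.trans h2.symm
    show ((c C')⁻¹ * c C) * (x C : X) * ((c C')⁻¹ * c C)⁻¹ = (x C' : X)
    calc ((c C')⁻¹ * c C) * (x C : X) * ((c C')⁻¹ * c C)⁻¹
        = (c C')⁻¹ * ((c C) * (x C : X) * (c C)⁻¹) * (c C') := by group
      _ = (c C')⁻¹ * ((c C') * (x C' : X) * (c C')⁻¹) * (c C') := by rw [h3]
      _ = (x C' : X) := by group
  have := Nat.card_le_card_of_injective F hF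
  simpa [kS, Nat.card_eq_fintype_card] using this

/-- The fibration over the classes of the first components. -/
theorem kS_le_sum (S S₁ S₂ : Finset ℕ) (Y : Finset X)
    (hdec : ∀ x : X, IsSElt S x → ∃ a b : X, a * b = x ∧ Commute a b ∧ IsSElt S₁ a ∧ IsSElt S₂ b)
    (hY : ∀ a : X, IsSElt S₁ a → ∃ y ∈ Y, IsConj a y) :
    kS S X ≤ ∑ y ∈ Y, kS S₂ (Subgroup.centralizer ({y} : Set X)) := by
  classical
  haveI : Fintype (ConjClasses X) := Fintype.ofFinite _
  let T : Finset (ConjClasses X) := Finset.univ.filter (fun C => ∃ x : X, ConjClasses.mk x = C ∧ IsSElt S x)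
  let Xu : X → Finset (ConjClasses X) := fun y => T.filter (fun C =>
    ∃ v : X, v ∈ Subgroup.centralizer ({y} : Set X) ∧ IsSElt S₂ v ∧ ConjClasses.mk (y * v) = C)
  have hcard : kS S X = T.card := by
    apply Nat.subtype_card
    intro C
    simp [T]
  have hcover : T ⊆ Y.biUnion Xu := by
    intro C hC
    obtain ⟨x, hxC, hxS⟩ := (Finset.mem_filter.mp hC).2
    obtain ⟨a, b, hab, hcomm, ha, hb⟩ := hdec x hxS
    obtain ⟨y, hy, hay⟩ := hY a ha
    obtain ⟨g, rfl⟩ := isConj_iff.mp hay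
    refine Finset.mem_biUnion.mpr ⟨_, hy, Finset.mem_filter.mpr ⟨hC, ?_⟩⟩
    refine ⟨g * b * g⁻¹, ?_, isSElt_conj g hb, ?_⟩
    · rw [Subgroup.mem_centralizer_singleton_iff]
      have : a * b = b * a := hcomm
      show g * b * g⁻¹ * (g * a * g⁻¹) = g * a * g⁻¹ * (g * b * g⁻¹)
      calc g * b * g⁻¹ * (g * a * g⁻¹) = g * (b * a) * g⁻¹ := by group
        _ = g * (a * b) * g⁻¹ := by rw [this]
        _ = _ := by group
    · rw [← hxC, ConjClasses.mk_eq_mk_iff_isConj, isConj_comm, isConj_iff]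
      refine ⟨g, ?_⟩
      rw [← hab]
      group
  have hXu : ∀ y : X, (Xu y).card ≤ kS S₂ (Subgroup.centralizer ({y} : Set X)) := by
    intro y
    have hex : ∀ C : Xu y, ∃ v : Subgroup.centralizer ({y} : Set X),
        IsSElt S₂ (v : X) ∧ ConjClasses.mk (y * (v : X)) = C.1 := by
      rintro ⟨C, hC⟩
      obtain ⟨v, hv, h1, h2⟩ := (Finset.mem_filter.mp hC).2
      exact ⟨⟨v, hv⟩, h1, h2⟩
    choose V hV1 hV2 using hex
    let F : Xu y → {D : ConjClasses (Subgroup.centralizer ({y} : Set X)) //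
        ∃ x : Subgroup.centralizer ({y} : Set X), ConjClasses.mk x = D ∧ IsSElt S₂ x} :=
      fun C => ⟨ConjClasses.mk (V C), V C, rfl, isSElt_coe.mpr (hV1 C)⟩
    have hF : Function.Injective F := by
      intro C C' h
      have h1 : ConjClasses.mk (V C) = ConjClasses.mk (V C') := congrArg Subtype.val h
      rw [ConjClasses.mk_eq_mk_iff_isConj, isConj_iff] at h1
      obtain ⟨c, hc⟩ := h1
      apply Subtype.ext
      rw [← hV2 C, ← hV2 C', ConjClasses.mk_eq_mk_iff_isConj, isConj_iff]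
      refine ⟨c, ?_⟩
      have hcu : (c : X) * y = y * c := Subgroup.mem_centralizer_singleton_iff.mp c.2
      have hc' : (c : X) * (V C : X) * (c : X)⁻¹ = (V C' : X) := by
        have := congrArg Subtype.val hc
        simpa using this
      rw [← hc']
      calc (c : X) * (y * (V C : X)) * (c : X)⁻¹
          = ((c : X) * y) * (V C : X) * (c : X)⁻¹ := by group
        _ = (y * (c : X)) * (V C : X) * (c : X)⁻¹ := by rw [hcu]
        _ = _ := by group
    have h3 := Nat.card_le_card_of_injective F hF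
    rw [Nat.card_eq_fintype_card, Fintype.card_coe] at h3
    exact h3
  rw [hcard]
  calc T.card ≤ (Y.biUnion Xu).card := Finset.card_le_card hcover
    _ ≤ ∑ y ∈ Y, (Xu y).card := Finset.card_biUnion_le
    _ ≤ _ := Finset.sum_le_sum (fun y _ => hXu y)

/-- Decomposition of an `insert q S'`-element: `q`-part first. -/
theorem dec_q (q : ℕ) [Fact q.Prime] (S' : Finset ℕ) (x : X) (hx : IsSElt (insert q S') x) :
    ∃ a b : X, a * b = x ∧ Commute a b ∧ IsSElt {q} a ∧ IsSElt S' b := by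
  obtain ⟨a, b, hab, hcomm, -, hbz, ⟨k, hk⟩, hb⟩ :=
    Cfsg.Agent.Lib.Transfer.Basic.exists_pPart_decomp (p := q) x
  refine ⟨a, b, hab, hcomm, ?_, ?_⟩
  · intro r hr hd
    rw [hk] at hd
    have := (Nat.prime_dvd_prime_iff_eq hr (Fact.out : q.Prime)).mp (hr.dvd_of_dvd_pow hd)
    simp [this]
  · intro r hr hd
    have h4 : orderOf b ∣ orderOf x := orderOf_dvd_of_mem_zpowers hbz
    have h5 := hx r hr (hd.trans h4)
    rcases Finset.mem_insert.mp h5 with h5 | h5
    · exfalso
      rw [h5] at hd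
      have := Nat.Coprime.eq_one_of_dvd hb.symm hd
      exact (Fact.out : q.Prime).one_lt.ne' this
    · exact h5

/-- Decomposition of an `insert q S'`-element: `S'`-part first. -/
theorem dec_q' (q : ℕ) [Fact q.Prime] (S' : Finset ℕ) (x : X) (hx : IsSElt (insert q S') x) :
    ∃ a b : X, a * b = x ∧ Commute a b ∧ IsSElt S' a ∧ IsSElt {q} b := by
  obtain ⟨a, b, hab, hcomm, h1, h2⟩ := dec_q q S' x hx
  exact ⟨b, a, by rw [← hab, hcomm.eq], hcomm.symm, h2, h1⟩

end cover

section parts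

variable {X : Type u} [Group X]

theorem mS_pos (S : Finset ℕ) (hS : ∀ r ∈ S, r.Prime) (X : Type u) [Group X] : 0 < mS S X :=
  Finset.prod_pos fun r hr => pow_pos (hS r hr).pos _

theorem mS_empty (X : Type u) [Group X] : mS ∅ X = 1 := by simp [mS]

theorem mS_insert (q : ℕ) (S' : Finset ℕ) (hq : q ∉ S') (X : Type u) [Group X] :
    mS (insert q S') X = q ^ (Nat.card X).factorization q * mS S' X := by
  simp [mS, Finset.prod_insert hq]

theorem mS_dvd_of_dvd (S : Finset ℕ) {Y Z : Type u} [Group Y] [Group Z] [Finite Z]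
    (h : Nat.card Y ∣ Nat.card Z) : mS S Y ∣ mS S Z := by
  refine Finset.prod_dvd_prod_of_dvd _ _ fun r _ => pow_dvd_pow _ ?_
  exact (Nat.factorization_le_iff_dvd (Nat.pos_of_dvd_of_pos h Nat.card_pos).ne'
    Nat.card_pos.ne').mpr h r

theorem mem_of_prime_dvd_mS {S : Finset ℕ} (hS : ∀ r ∈ S, r.Prime) {X : Type u} [Group X]
    {r : ℕ} (hr : r.Prime) (h : r ∣ mS S X) : r ∈ S := by
  obtain ⟨s, hs, hd⟩ := (Prime.dvd_finsetProd_iff hr.prime _).mp h
  have := (Nat.prime_dvd_prime_iff_eq hr (hS s hs)).mp (hr.dvd_of_dvd_pow hd)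
  rwa [this]

/-- If `r ∈ S` the exact power of `r` in `mS S X` is that of `|X|`. -/
theorem factorization_mS_of_mem {S : Finset ℕ} (hS : ∀ r ∈ S, r.Prime) (X : Type u) [Group X]
    [Finite X] {r : ℕ} (hr : r ∈ S) :
    (mS S X).factorization r = (Nat.card X).factorization r := by
  classical
  have hrp := hS r hr
  have h1 : mS S X = r ^ (Nat.card X).factorization r * mS (S.erase r) X := by
    rw [← mS_insert r _ (Finset.notMem_erase r S), Finset.insert_erase hr]
  have hpos : 0 < mS (S.erase r) X := mS_pos _ (fun s hs => hS s (Finset.mem_of_mem_erase hs)) X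
  have hnd : ¬ r ∣ mS (S.erase r) X := by
    intro hd
    have := mem_of_prime_dvd_mS (fun s hs => hS s (Finset.mem_of_mem_erase hs)) hrp hd
    exact Finset.notMem_erase r S this
  rw [h1, Nat.factorization_mul (pow_pos hrp.pos _).ne' hpos.ne', Finsupp.add_apply,
    hrp.factorization_pow, Finsupp.single_eq_same,
    Nat.factorization_eq_zero_of_not_dvd hnd, add_zero]

theorem mS_dvd_card (S : Finset ℕ) (hS : ∀ r ∈ S, r.Prime) (X : Type u) [Group X] [Finite X] :
    mS S X ∣ Nat.card X := by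
  classical
  have hcard : 0 < Nat.card X := Nat.card_pos
  rw [← Nat.factorization_le_iff_dvd (mS_pos S hS X).ne' hcard.ne']
  intro r
  by_cases hr : r ∈ S
  · exact (factorization_mS_of_mem hS X hr).le
  · by_cases hrp : r.Prime
    · rw [Nat.factorization_eq_zero_of_not_dvd (fun hd => hr (mem_of_prime_dvd_mS hS hrp hd))]
      exact Nat.zero_le _
    · rw [Nat.factorization_eq_zero_of_not_prime _ hrp]
      exact Nat.zero_le _

/-- A number with all prime factors in `S` dividing `|X|` divides `mS S X`. -/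
theorem dvd_mS_of_dvd {S : Finset ℕ} (hS : ∀ r ∈ S, r.Prime) {X : Type u} [Group X] [Finite X]
    {n : ℕ} (hn : n ∣ Nat.card X) (hp : ∀ r : ℕ, r.Prime → r ∣ n → r ∈ S) : n ∣ mS S X := by
  classical
  have hcard : 0 < Nat.card X := Nat.card_pos
  have hn0 : n ≠ 0 := fun h => by
    rw [h, zero_dvd_iff] at hn
    exact hcard.ne' hn
  rw [← Nat.factorization_le_iff_dvd hn0 (mS_pos S hS X).ne']
  intro r
  by_cases hrS : r ∈ S
  · rw [factorization_mS_of_mem hS X hrS]
    exact (Nat.factorization_le_iff_dvd hn0 hcard.ne').mpr hn r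
  · by_cases hrp : r.Prime
    · rw [Nat.factorization_eq_zero_of_not_dvd (fun hd => hrS (hp r hrp hd))]
      exact Nat.zero_le _
    · rw [Nat.factorization_eq_zero_of_not_prime _ hrp]
      exact Nat.zero_le _

/-- A proper divisor of `mS S X`, all primes of `S` being at least `p`, is at most `mS / p`. -/
theorem mul_le_mS_of_dvd_of_ne {S : Finset ℕ} (hS : ∀ r ∈ S, r.Prime) {X : Type u} [Group X]
    {p : ℕ} (hpS : ∀ r ∈ S, p ≤ r) {d : ℕ} (hd : d ∣ mS S X) (hne : d ≠ mS S X) :
    p * d ≤ mS S X := by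
  obtain ⟨e, he⟩ := hd
  have hpos := mS_pos S hS X
  have he1 : e ≠ 1 := by
    rintro rfl
    exact hne (by omega)
  have he0 : e ≠ 0 := by
    rintro rfl
    omega
  obtain ⟨r, hr, hre⟩ := Nat.exists_prime_and_dvd he1
  have hrS := mem_of_prime_dvd_mS hS hr (Dvd.dvd.trans hre (Dvd.intro_left d he.symm))
  have h1 : p ≤ e := (hpS r hrS).trans (Nat.le_of_dvd (Nat.pos_of_ne_zero he0) hre)
  calc p * d ≤ e * d := Nat.mul_le_mul_right d h1
    _ = mS S X := by rw [he, mul_comm]

/-- Order coprime to the index for a subgroup whose order is the `S`-part. -/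
theorem coprime_index_of_card_eq_mS {S : Finset ℕ} (hS : ∀ r ∈ S, r.Prime) {X : Type u} [Group X]
    [Finite X] (H : Subgroup X) (hH : Nat.card H = mS S X) : (Nat.card H).Coprime H.index := by
  classical
  refine Nat.coprime_of_dvd fun r hr h1 h2 => ?_
  rw [hH] at h1
  have hrS := mem_of_prime_dvd_mS hS hr h1
  have hcard : Nat.card H * H.index = Nat.card X := Subgroup.card_mul_index H
  have hfac := factorization_mS_of_mem hS X hrS
  rw [← hH] at hfac
  have hHpos : 0 < Nat.card H := Nat.card_pos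
  have hindex : H.index ≠ 0 := Subgroup.index_ne_zero_of_finite
  rw [← hcard, Nat.factorization_mul hHpos.ne' hindex, Finsupp.add_apply] at hfac
  have := (Nat.Prime.dvd_iff_one_le_factorization hr hindex).mp h2
  omega

theorem isNilpotent_of_isMulCommutative {X : Type u} [Group X] (H : Subgroup X)
    (h : IsMulCommutative H) : Group.IsNilpotent H := by
  letI : CommGroup H := { (inferInstance : Group H) with mul_comm := h.is_comm.comm }
  infer_instance

end parts

section hall

variable {X : Type u} [Group X]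

/-- Plain commutativity of a subgroup. -/
def IsAb (H : Subgroup X) : Prop := ∀ a ∈ H, ∀ b ∈ H, a * b = b * a

theorem isAb_of_isMulCommutative {H : Subgroup X} (h : IsMulCommutative H) : IsAb H := by
  intro a ha b hb
  have := h.is_comm.comm ⟨a, ha⟩ ⟨b, hb⟩
  exact congrArg Subtype.val this

theorem isMulCommutative_of_isAb {H : Subgroup X} (h : IsAb H) : IsMulCommutative H :=
  ⟨⟨fun a b => Subtype.ext (h a a.2 b b.2)⟩⟩

theorem isNilpotent_of_isAb {H : Subgroup X} (h : IsAb H) : Group.IsNilpotent H :=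
  isNilpotent_of_isMulCommutative H (isMulCommutative_of_isAb h)

theorem isAb_subgroupOf {H : Subgroup X} (h : IsAb H) (Z : Subgroup X) : IsAb (H.subgroupOf Z) := by
  intro a ha b hb
  exact Subtype.ext (h a ha b hb)

theorem card_subgroupOf_of_le {H Z : Subgroup X} (h : H ≤ Z) :
    Nat.card (H.subgroupOf Z) = Nat.card H :=
  Nat.card_congr (Subgroup.subgroupOfEquivOfLe h).toEquiv

theorem prime_dvd_mS {S : Finset ℕ} [Finite X] {r : ℕ} (hrS : r ∈ S) (hr : r.Prime)
    (hd : r ∣ Nat.card X) : r ∣ mS S X := by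
  have h1 : r ∣ r ^ (Nat.card X).factorization r := by
    apply dvd_pow_self
    have := (hr.dvd_iff_one_le_factorization Nat.card_pos.ne').mp hd
    omega
  exact h1.trans (Finset.dvd_prod_of_mem (fun r => r ^ (Nat.card X).factorization r) hrS)

variable [Finite X]

/-- Wielandt for abelian Hall subgroups: `S`-elements are conjugate into `H`. -/
theorem exists_conj_mem_of_hall {S : Finset ℕ} (hS : ∀ r ∈ S, r.Prime) {H : Subgroup X}
    (hab : IsAb H) (hH : Nat.card H = mS S X) {x : X} (hx : IsSElt S x) :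
    ∃ g : X, g * x * g⁻¹ ∈ H := by
  obtain ⟨g, hg⟩ := Cfsg.Agent.Lib.Nilpotent.WielandtHall.exists_le_conj_of_nilpotent_hall H
    (Subgroup.zpowers x) (isNilpotent_of_isAb hab) (coprime_index_of_card_eq_mS hS H hH) (by
      intro r hr hd
      rw [Nat.card_zpowers] at hd
      rw [hH]
      exact prime_dvd_mS (hx r hr hd) hr (hd.trans (orderOf_dvd_natCard x)))
  have h1 := hg (Subgroup.mem_zpowers x)
  obtain ⟨h, hh, he⟩ := Subgroup.mem_smul_pointwise_iff_exists _ _ _ |>.mp h1
  refine ⟨g⁻¹, ?_⟩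
  rw [← he]
  simpa [MulAut.smul_def, MulAut.conj_apply, mul_assoc] using hh

/-- Conjugacy of abelian Hall subgroups: `H₂ = g H₁ g⁻¹`. -/
theorem exists_conj_of_hall {S : Finset ℕ} (hS : ∀ r ∈ S, r.Prime) {H₁ H₂ : Subgroup X}
    (hab₁ : IsAb H₁) (hH₁ : Nat.card H₁ = mS S X) (hH₂ : Nat.card H₂ = mS S X) :
    ∃ g : X, ∀ x, x ∈ H₂ ↔ g⁻¹ * x * g ∈ H₁ := by
  obtain ⟨g, hg⟩ := Cfsg.Agent.Lib.Nilpotent.WielandtHall.exists_le_conj_of_nilpotent_hall H₁
    H₂ (isNilpotent_of_isAb hab₁) (coprime_index_of_card_eq_mS hS H₁ hH₁) (by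
      intro r hr hd
      rw [hH₂] at hd
      rw [hH₁]
      exact hd)
  have hc : Nat.card (MulAut.conj g • H₁ : Subgroup X) = Nat.card H₁ :=
    Nat.card_congr (Subgroup.equivSMul (MulAut.conj g) H₁).symm.toEquiv
  have heq : H₂ = MulAut.conj g • H₁ :=
    Subgroup.eq_of_le_of_card_ge hg (by rw [hc, hH₁, hH₂])
  refine ⟨g, fun x => ?_⟩
  rw [heq, Subgroup.mem_smul_pointwise_iff_exists]
  constructor
  · rintro ⟨h, hh, rfl⟩
    simpa [MulAut.smul_def, MulAut.conj_apply, mul_assoc] using hh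
  · intro h
    exact ⟨_, h, by simp [MulAut.smul_def, MulAut.conj_apply, mul_assoc]⟩

/-- `H ≤ Z` with `|H|` the `S`-part of `|X|` has order the `S`-part of `|Z|`. -/
theorem card_eq_mS_of_le {S : Finset ℕ} (hS : ∀ r ∈ S, r.Prime) {H Z : Subgroup X}
    (hHZ : H ≤ Z) (hH : Nat.card H = mS S X) : Nat.card H = mS S Z := by
  apply Nat.dvd_antisymm
  · apply dvd_mS_of_dvd hS (Subgroup.card_dvd_of_le hHZ)
    intro r hr hd
    rw [hH] at hd
    exact mem_of_prime_dvd_mS hS hr hd
  · rw [hH]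
    exact mS_dvd_of_dvd S (Subgroup.card_subgroup_dvd_card Z)

/-- Wielandt inside a subgroup. -/
theorem exists_conj_mem_sub {S : Finset ℕ} (hS : ∀ r ∈ S, r.Prime) {H Z : Subgroup X}
    (hHZ : H ≤ Z) (hab : IsAb H) (hH : Nat.card H = mS S Z) {x : X} (hxZ : x ∈ Z)
    (hx : IsSElt S x) : ∃ c ∈ Z, c * x * c⁻¹ ∈ H := by
  obtain ⟨g, hg⟩ := exists_conj_mem_of_hall (X := Z) (H := H.subgroupOf Z) (x := ⟨x, hxZ⟩) hS
    (isAb_subgroupOf hab Z) (by rw [card_subgroupOf_of_le hHZ, hH]) (isSElt_coe.mpr hx)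
  refine ⟨g, g.2, ?_⟩
  have := Subgroup.mem_subgroupOf.mp hg
  simpa using this

/-- Conjugacy of abelian Hall subgroups inside a subgroup. -/
theorem exists_conj_sub {S : Finset ℕ} (hS : ∀ r ∈ S, r.Prime) {H₁ H₂ Z : Subgroup X}
    (h₁ : H₁ ≤ Z) (h₂ : H₂ ≤ Z) (hab₁ : IsAb H₁) (hH₁ : Nat.card H₁ = mS S Z)
    (hH₂ : Nat.card H₂ = mS S Z) :
    ∃ c ∈ Z, ∀ x ∈ Z, x ∈ H₂ ↔ c⁻¹ * x * c ∈ H₁ := by
  obtain ⟨g, hg⟩ := exists_conj_of_hall (X := Z) (H₁ := H₁.subgroupOf Z) (H₂ := H₂.subgroupOf Z) hS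
    (isAb_subgroupOf hab₁ Z) (by rw [card_subgroupOf_of_le h₁, hH₁])
    (by rw [card_subgroupOf_of_le h₂, hH₂])
  refine ⟨g, g.2, fun x hx => ?_⟩
  have := hg ⟨x, hx⟩
  simpa [Subgroup.mem_subgroupOf] using this

/-- Every `{q}`-element is conjugate into a given Sylow subgroup. -/
theorem exists_conj_mem_sylow {q : ℕ} [Fact q.Prime] (Q : Sylow q X) {a : X}
    (ha : IsSElt {q} a) : ∃ g : X, g * a * g⁻¹ ∈ (Q : Subgroup X) := by
  have hq : q.Prime := Fact.out
  have h1 : orderOf a = q ^ (orderOf a).primeFactorsList.length :=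
    Nat.eq_prime_pow_of_unique_prime_dvd (orderOf_pos a).ne' (fun {d} hd hdv => by
      have := ha d hd hdv
      simpa using this)
  obtain ⟨P, hP⟩ := Cfsg.Agent.Lib.Basic.SylowUtil.exists_sylow_of_orderOf h1
  obtain ⟨g, hg⟩ := MulAction.exists_smul_eq X P Q
  refine ⟨g, ?_⟩
  rw [← hg]
  exact Subgroup.mem_map.mpr ⟨a, hP, rfl⟩

/-- The finset of elements of a subgroup. -/
noncomputable def fs (H : Subgroup X) : Finset X := (Set.toFinite (H : Set X)).toFinset

theorem mem_fs {H : Subgroup X} {x : X} : x ∈ fs H ↔ x ∈ H := by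
  simp [fs]

theorem card_fs (H : Subgroup X) : (fs H).card = Nat.card H := by
  rw [fs, ← Set.ncard_eq_toFinset_card]
  exact (Nat.card_coe_set_eq (H : Set X)).symm

/-- Theorem A: `k_S(X) ≤ |X|_S`. -/
theorem kS_le_mS (S : Finset ℕ) : ∀ (X : Type u) [Group X] [Finite X],
    (∀ r ∈ S, r.Prime) → kS S X ≤ mS S X := by
  classical
  induction S using Finset.induction_on with
  | empty =>
    intro X _ _ _
    rw [mS_empty]
    have hsub : Subsingleton {C : ConjClasses X // ∃ x : X, ConjClasses.mk x = C ∧ IsSElt ∅ x} := by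
      have key : ∀ C : {C : ConjClasses X // ∃ x : X, ConjClasses.mk x = C ∧ IsSElt ∅ x},
          C.1 = ConjClasses.mk 1 := by
        rintro ⟨C, x, rfl, hx⟩
        have h1 : orderOf x = 1 := by
          by_contra hne
          obtain ⟨q, hq, hd⟩ := Nat.exists_prime_and_dvd hne
          simpa using hx q hq hd
        show ConjClasses.mk x = ConjClasses.mk 1
        rw [orderOf_eq_one_iff.mp h1]
      exact ⟨fun a b => Subtype.ext ((key a).trans (key b).symm)⟩
    exact Finite.card_le_one_iff_subsingleton.mpr hsub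
  | insert q S' hq ih =>
    intro X _ _ hS
    have hqp : q.Prime := hS q (Finset.mem_insert_self _ _)
    have hS' : ∀ r ∈ S', r.Prime := fun r hr => hS r (Finset.mem_insert_of_mem hr)
    haveI : Fact q.Prime := ⟨hqp⟩
    obtain ⟨Q⟩ : Nonempty (Sylow q X) := inferInstance
    have h1 := kS_le_sum (insert q S') {q} S' (fs (Q : Subgroup X)) (dec_q q S') (by
      intro a ha
      obtain ⟨g, hg⟩ := exists_conj_mem_sylow Q ha
      exact ⟨_, mem_fs.mpr hg, isConj_iff.mpr ⟨g, rfl⟩⟩)
    refine h1.trans ?_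
    rw [mS_insert q S' hq]
    calc ∑ y ∈ fs (Q : Subgroup X), kS S' (Subgroup.centralizer ({y} : Set X))
        ≤ ∑ _y ∈ fs (Q : Subgroup X), mS S' X := by
          refine Finset.sum_le_sum fun y _ => ?_
          refine (ih _ hS').trans (Nat.le_of_dvd (mS_pos S' hS' X) ?_)
          exact mS_dvd_of_dvd S' (Subgroup.card_subgroup_dvd_card _)
      _ = q ^ (Nat.card X).factorization q * mS S' X := by
          rw [Finset.sum_const, card_fs, smul_eq_mul, Sylow.card_eq_multiplicity]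

end hall

section orbits

variable {X : Type u} [Group X] [Finite X]

/-- Orbit representatives: induction part. -/
theorem exists_reps_aux (v : X) (a : ℕ) (ha : ∀ d, d ∣ orderOf v → d ≠ 1 → a ≤ d) (n : ℕ) :
    ∀ W : Finset X, W.card = n → (∀ x ∈ W, v * x * v⁻¹ ∈ W) → (∀ x ∈ W, v * x ≠ x * v) →
      ∃ Y ⊆ W, (∀ x ∈ W, ∃ i : ℕ, v ^ i * x * (v ^ i)⁻¹ ∈ Y) ∧ a * Y.card ≤ W.card := by
  classical
  induction n using Nat.strong_induction_on with
  | _ n ih =>
  intro W hWn hclosed hfix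
  by_cases hW : W = ∅
  · exact ⟨∅, by simp, by simp [hW], by simp⟩
  obtain ⟨x, hx⟩ := Finset.nonempty_iff_ne_empty.mpr hW
  -- powers stay in `W`
  have hpow : ∀ y ∈ W, ∀ i : ℕ, v ^ i * y * (v ^ i)⁻¹ ∈ W := by
    intro y hy i
    induction i with
    | zero => simpa using hy
    | succ i hi =>
      have := hclosed _ hi
      have h2 : v ^ (i + 1) * y * (v ^ (i + 1))⁻¹ = v * (v ^ i * y * (v ^ i)⁻¹) * v⁻¹ := by
        rw [pow_succ']
        group
      rwa [h2]
  let O : Finset X := W.filter (fun y => ∃ i : ℕ, v ^ i * x * (v ^ i)⁻¹ = y)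
  have hOW : O ⊆ W := Finset.filter_subset _ _
  have hxO : x ∈ O := Finset.mem_filter.mpr ⟨hx, 0, by simp⟩
  -- the orbit has at least `a` elements
  let σ : X → X := fun y => v * y * v⁻¹
  have hσ : ∀ i : ℕ, σ^[i] x = v ^ i * x * (v ^ i)⁻¹ := by
    intro i
    induction i with
    | zero => simp
    | succ i hi =>
      rw [Function.iterate_succ_apply', hi]
      show v * (v ^ i * x * (v ^ i)⁻¹) * v⁻¹ = _
      rw [pow_succ']
      group
  have hs1 : Function.minimalPeriod σ x ≠ 1 := by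
    intro h
    have h2 := Function.minimalPeriod_eq_one_iff_isFixedPt.mp h
    apply hfix x hx
    have h3 : v * x * v⁻¹ = x := h2
    calc v * x = v * x * v⁻¹ * v := by group
      _ = x * v := by rw [h3]
  have hs2 : Function.minimalPeriod σ x ∣ orderOf v := by
    apply Function.IsPeriodicPt.minimalPeriod_dvd
    show σ^[orderOf v] x = x
    rw [hσ, pow_orderOf_eq_one]
    simp
  have hO : a ≤ O.card := by
    refine (ha _ hs2 hs1).trans ?_
    have hinj := Function.iterate_injOn_Iio_minimalPeriod (f := σ) (x := x)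
    have h3 : (Finset.range (Function.minimalPeriod σ x)).image (fun i => σ^[i] x) ⊆ O := by
      intro y hy
      obtain ⟨i, -, rfl⟩ := Finset.mem_image.mp hy
      rw [hσ]
      exact Finset.mem_filter.mpr ⟨hpow x hx i, i, rfl⟩
    have h4 := Finset.card_le_card h3
    rwa [Finset.card_image_of_injOn, Finset.card_range] at h4
    intro i hi j hj hij
    exact hinj (by simpa using hi) (by simpa using hj) hij
  -- the rest of `W`
  let W' : Finset X := W \ O
  have hW'card : W'.card + O.card = W.card := Finset.card_sdiff_add_card_eq_card hOW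
  have hOpos : 0 < O.card := Finset.card_pos.mpr ⟨x, hxO⟩
  have hlt : W'.card < n := by omega
  have hclosed' : ∀ y ∈ W', v * y * v⁻¹ ∈ W' := by
    intro y hy
    obtain ⟨hyW, hyO⟩ := Finset.mem_sdiff.mp hy
    refine Finset.mem_sdiff.mpr ⟨hclosed y hyW, fun h => hyO ?_⟩
    obtain ⟨-, i, hi⟩ := Finset.mem_filter.mp h
    refine Finset.mem_filter.mpr ⟨hyW, i + (orderOf v - 1), ?_⟩
    have h1 : v ^ (i + (orderOf v - 1)) = v⁻¹ * v ^ i := by
      have h2 : v ^ (orderOf v - 1) = v⁻¹ := by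
        rw [eq_inv_iff_mul_eq_one, ← pow_succ, Nat.sub_add_cancel (orderOf_pos v)]
        exact pow_orderOf_eq_one v
      rw [pow_add, h2]
      exact (Commute.inv_right (Commute.pow_left (Commute.refl v) i)).eq
    rw [h1]
    calc v⁻¹ * v ^ i * x * (v⁻¹ * v ^ i)⁻¹ = v⁻¹ * (v ^ i * x * (v ^ i)⁻¹) * v := by group
      _ = v⁻¹ * (v * y * v⁻¹) * v := by rw [hi]
      _ = y := by group
  obtain ⟨Y', hY'W, hY'cov, hY'card⟩ := ih _ hlt W' rfl hclosed' (fun y hy =>
    hfix y (Finset.mem_sdiff.mp hy).1)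
  refine ⟨insert x Y', ?_, ?_, ?_⟩
  · intro y hy
    rcases Finset.mem_insert.mp hy with rfl | hy
    · exact hx
    · exact (Finset.mem_sdiff.mp (hY'W hy)).1
  · intro y hy
    by_cases hyO : y ∈ O
    · obtain ⟨-, i, hi⟩ := Finset.mem_filter.mp hyO
      refine ⟨orderOf v - i % orderOf v, ?_⟩
      have h1 : v ^ (orderOf v - i % orderOf v) * v ^ i = 1 := by
        rw [← pow_mod_orderOf v i, ← pow_add, Nat.sub_add_cancel (Nat.mod_lt _ (orderOf_pos v)).le,
          pow_orderOf_eq_one]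
      apply Finset.mem_insert.mpr
      left
      rw [← hi]
      have h2 : v ^ (orderOf v - i % orderOf v) * (v ^ i * x * (v ^ i)⁻¹) *
          (v ^ (orderOf v - i % orderOf v))⁻¹
          = (v ^ (orderOf v - i % orderOf v) * v ^ i) * x *
            (v ^ (orderOf v - i % orderOf v) * v ^ i)⁻¹ := by group
      rw [h2, h1]
      simp
    · obtain ⟨i, hi⟩ := hY'cov y (Finset.mem_sdiff.mpr ⟨hy, hyO⟩)
      exact ⟨i, Finset.mem_insert_of_mem hi⟩
  · have hnot : x ∉ Y' := fun h => (Finset.mem_sdiff.mp (hY'W h)).2 hxO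
    rw [Finset.card_insert_of_notMem hnot, mul_add, mul_one]
    omega

/-- Orbit representatives for conjugation by `v` on a `v`-invariant finite set. -/
theorem exists_reps (A : Finset X) (v : X) (hA : ∀ x ∈ A, v * x * v⁻¹ ∈ A) (a : ℕ)
    (ha : ∀ d, d ∣ orderOf v → d ≠ 1 → a ≤ d) [DecidablePred fun x : X => v * x = x * v]
    [DecidableEq X] :
    ∃ Y ⊆ A, A.filter (fun x => v * x = x * v) ⊆ Y ∧
      (∀ x ∈ A, ∃ i : ℕ, v ^ i * x * (v ^ i)⁻¹ ∈ Y) ∧
      a * (Y \ A.filter (fun x => v * x = x * v)).card ≤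
        (A \ A.filter (fun x => v * x = x * v)).card := by
  classical
  set F := A.filter (fun x => v * x = x * v) with hF
  obtain ⟨Y₀, hY₀, hcov, hcard⟩ := exists_reps_aux v a ha _ (A \ F) rfl (by
      intro x hx
      obtain ⟨hxA, hxF⟩ := Finset.mem_sdiff.mp hx
      refine Finset.mem_sdiff.mpr ⟨hA x hxA, fun h => hxF ?_⟩
      refine Finset.mem_filter.mpr ⟨hxA, ?_⟩
      have h2 : v * (v * x * v⁻¹) = (v * x * v⁻¹) * v := (Finset.mem_filter.mp h).2
      have h3 : v * (v * x) = v * x * v := by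
        calc v * (v * x) = v * (v * x * v⁻¹) * v := by group
          _ = (v * x * v⁻¹) * v * v := by rw [h2]
          _ = v * x * v := by group
      exact mul_left_cancel (a := v) (by rw [h3, mul_assoc]))
    (by
      intro x hx h
      obtain ⟨hxA, hxF⟩ := Finset.mem_sdiff.mp hx
      exact hxF (Finset.mem_filter.mpr ⟨hxA, h⟩))
  have hdisj : Disjoint Y₀ F := by
    rw [Finset.disjoint_left]
    intro x hx hxF
    exact (Finset.mem_sdiff.mp (hY₀ hx)).2 hxF
  refine ⟨F ∪ Y₀, ?_, Finset.subset_union_left, ?_, ?_⟩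
  · apply Finset.union_subset (Finset.filter_subset _ _)
    exact hY₀.trans Finset.sdiff_subset
  · intro x hx
    by_cases hxF : x ∈ F
    · exact ⟨0, Finset.mem_union_left _ (by simpa using hxF)⟩
    · obtain ⟨i, hi⟩ := hcov x (Finset.mem_sdiff.mpr ⟨hx, hxF⟩)
      exact ⟨i, Finset.mem_union_right _ hi⟩
  · have : (F ∪ Y₀) \ F = Y₀ := by
      rw [Finset.union_sdiff_cancel_left hdisj.symm]
    rw [this]
    exact hcard

end orbits

end Cfsg.Agent.Lib.PiClasses
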