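import Mathlib
import Cfsg.Agent.Lib.PiClasses.Basic
import Cfsg.Agent.Lib.Coprime.InvSylow
import Cfsg.Agent.Lib.Basic.ProductCard

/-!
# The `(p² + p - 1)/p³` bound for the number of classes of `S`-elements
-/

set_option autoImplicit false

open Pointwise

namespace Cfsg.Agent.Lib.PiClasses

universe u

/-- The Gustafson constant. -/
noncomputable def cp (p : ℕ) : ℚ := ((p : ℚ) ^ 2 + p - 1) / p ^ 3

theorem cp_eq {p : ℕ} (hp : 2 ≤ p) : cp p = 1 / p + (1 - 1 / (p : ℚ)) / p ^ 2 := by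
  have hp0 : (p : ℚ) ≠ 0 := by
    have : (0 : ℚ) < p := by exact_mod_cast (by omega : 0 < p)
    exact this.ne'
  unfold cp
  field_simp
  ring

theorem cp_nonneg {p : ℕ} (hp : 2 ≤ p) : 0 ≤ cp p := by
  have h1 : (2 : ℚ) ≤ p := by exact_mod_cast hp
  unfold cp
  apply div_nonneg
  · nlinarith
  · positivity

theorem one_div_le_cp {p : ℕ} (hp : 2 ≤ p) : 1 / (p : ℚ) ≤ cp p := by
  have h1 : (2 : ℚ) ≤ p := by exact_mod_cast hp
  have h0 : (0 : ℚ) < p := by linarith
  rw [cp_eq hp]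
  have : 0 ≤ (1 - 1 / (p : ℚ)) / p ^ 2 := by
    apply div_nonneg _ (by positivity)
    rw [sub_nonneg, div_le_one h0]
    linarith
  linarith

theorem cp_anti {p q : ℕ} (hp : 2 ≤ p) (hpq : p ≤ q) : cp q ≤ cp p := by
  have h1 : (2 : ℚ) ≤ p := by exact_mod_cast hp
  have h2 : (p : ℚ) ≤ q := by exact_mod_cast hpq
  have h0 : (0 : ℚ) < p := by linarith
  have h3 : (0 : ℚ) < q := by linarith
  unfold cp
  rw [div_le_div_iff₀ (by positivity) (by positivity)]
  have h4 : (0 : ℚ) ≤ (q : ℚ) - p := by linarith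
  have h5 : (p : ℚ) ^ 2 * q ^ 2 + p * q * (p + q) - (p ^ 2 + p * q + q ^ 2) ≥ 0 := by
    have hpp : (4 : ℚ) ≤ (p : ℚ) ^ 2 := by nlinarith
    have h6 : (p : ℚ) ^ 2 * q ^ 2 ≥ 4 * q ^ 2 :=
      mul_le_mul_of_nonneg_right hpp (sq_nonneg (q : ℚ))
    have h7 : (p : ℚ) * q * (p + q) ≥ 2 * (p * q) := by nlinarith [mul_pos h0 h3]
    nlinarith [sq_nonneg (q : ℚ), mul_pos h0 h3]
  nlinarith [mul_nonneg h4 h5]

section pgroup

variable {X : Type u} [Group X] [Finite X]

/-- A proper subgroup of a `q`-subgroup has index at least `q`. -/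
theorem mul_card_le_of_lt {q : ℕ} (hq : q.Prime) {P K : Subgroup X} (hP : IsPGroup q P)
    (hKP : K ≤ P) (hne : K ≠ P) : q * Nat.card K ≤ Nat.card P := by
  haveI : Fact q.Prime := ⟨hq⟩
  obtain ⟨n, hn⟩ := IsPGroup.iff_card.mp hP
  have hd : Nat.card K ∣ Nat.card P := Subgroup.card_dvd_of_le hKP
  rw [hn] at hd
  obtain ⟨j, hj, hK⟩ := (Nat.dvd_prime_pow hq).mp hd
  have hjn : j ≠ n := by
    rintro rfl
    apply hne
    apply Subgroup.eq_of_le_of_card_ge hKP
    rw [hK, hn]
  have hlt : j < n := lt_of_le_of_ne hj hjn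
  rw [hK, hn, ← pow_succ']
  exact Nat.pow_le_pow_right hq.pos hlt

/-- Gustafson's bound for a non-abelian `q`-group. -/
theorem card_conjClasses_le {q : ℕ} (hq : q.Prime) (hG : IsPGroup q X)
    (hna : ¬ ∀ a b : X, a * b = b * a) :
    (Nat.card (ConjClasses X) : ℚ) ≤ cp q * Nat.card X := by
  classical
  haveI : Fact q.Prime := ⟨hq⟩
  haveI : Fintype X := Fintype.ofFinite X
  set t := Nat.card X with ht
  have htpos : 0 < t := Nat.card_pos
  set Z := Subgroup.center X with hZ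
  -- the centre has index at least `q ^ 2`
  have hZ2 : q ^ 2 * Nat.card Z ≤ t := by
    obtain ⟨a, ha⟩ := IsPGroup.iff_card.mp (hG.to_quotient Z)
    have hidx : Z.index = q ^ a := by
      rw [Subgroup.index_eq_card, ha]
    have hmul : Nat.card Z * Z.index = t := Subgroup.card_mul_index Z
    have ha2 : 2 ≤ a := by
      by_contra hlt
      apply hna
      have hcyc : IsCyclic (X ⧸ Z) := by
        have ha' : a = 0 ∨ a = 1 := by omega
        rcases ha' with rfl | rfl
        · have : Nat.card (X ⧸ Z) = 1 := by simpa using ha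
          have hs : Subsingleton (X ⧸ Z) := (Nat.card_eq_one_iff_unique.mp this).1
          exact isCyclic_of_subsingleton
        · have h1 : Nat.card (X ⧸ Z) = q := by simpa using ha
          haveI : Fact q.Prime := ⟨hq⟩
          exact isCyclic_of_prime_card h1
      exact (MonoidHom.isMulCommutative_of_isCyclic_of_ker_le_center (QuotientGroup.mk' Z)
        (by rw [QuotientGroup.ker_mk'])).is_comm.comm
    obtain ⟨b, rfl⟩ : ∃ b, a = 2 + b := ⟨a - 2, by omega⟩
    calc q ^ 2 * Nat.card Z ≤ q ^ (2 + b) * Nat.card Z :=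
          Nat.mul_le_mul_right _ (Nat.pow_le_pow_right hq.pos (by omega))
      _ = t := by rw [← hmul, hidx, mul_comm]
  -- count commuting pairs
  let c : X → ℕ := fun g => Nat.card (Subgroup.centralizer ({g} : Set X))
  have hsum : Nat.card (ConjClasses X) * t = ∑ g, c g := by
    rw [ht, ← card_comm_eq_card_conjClasses_mul_card]
    let e : {p : X × X // Commute p.1 p.2} ≃ Σ g : X, Subgroup.centralizer ({g} : Set X) :=
      { toFun := fun p => ⟨p.1.1, p.1.2, Subgroup.mem_centralizer_singleton_iff.mpr p.2.eq.symm⟩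
        invFun := fun x => ⟨(x.1, x.2.1),
          (Subgroup.mem_centralizer_singleton_iff.mp x.2.2).symm⟩
        left_inv := fun p => rfl
        right_inv := fun x => rfl }
    rw [Nat.card_congr e, Nat.card_sigma]
  have hc1 : ∀ g, c g ≤ t := fun g => Nat.card_le_card_of_injective
    (fun x : Subgroup.centralizer ({g} : Set X) => (x : X)) Subtype.val_injective
  have hc2 : ∀ g, g ∉ Z → q * c g ≤ t := by
    intro g hg
    have hne : Subgroup.centralizer ({g} : Set X) ≠ ⊤ := by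
      intro h
      apply hg
      rw [hZ, Subgroup.mem_center_iff]
      intro x
      have : x ∈ Subgroup.centralizer ({g} : Set X) := by rw [h]; trivial
      exact Subgroup.mem_centralizer_singleton_iff.mp this
    have h := mul_card_le_of_lt hq (P := ⊤) (K := Subgroup.centralizer ({g} : Set X))
      (hG.to_subgroup ⊤) le_top hne
    rwa [Subgroup.card_top] at h
  have hq0 : (0 : ℚ) < q := by exact_mod_cast hq.pos
  have hq2 : (2 : ℚ) ≤ q := by exact_mod_cast hq.two_le
  have htQ : (0 : ℚ) < t := by exact_mod_cast htpos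
  let z : ℚ := Nat.card Z
  have hcardZ : (Finset.univ.filter (fun g : X => g ∈ Z)).card = Nat.card Z := by
    rw [Nat.card_eq_fintype_card, Fintype.card_subtype]
  have hcardZ' : (Finset.univ.filter (fun g : X => ¬ g ∈ Z)).card = t - Nat.card Z := by
    rw [Finset.filter_not, Finset.card_sdiff_of_subset (Finset.filter_subset _ _), hcardZ,
      Finset.card_univ, ht, ← Nat.card_eq_fintype_card]
  have hZt : Nat.card Z ≤ t := by
    have : 1 * Nat.card Z ≤ q ^ 2 * Nat.card Z :=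
      Nat.mul_le_mul_right _ (Nat.one_le_pow _ _ hq.pos)
    omega
  have hS : ((∑ g, c g : ℕ) : ℚ) ≤ z * t + ((t : ℚ) - z) * (t / q) := by
    rw [← Finset.sum_filter_add_sum_filter_not Finset.univ (fun g : X => g ∈ Z)]
    push_cast
    apply add_le_add
    · calc ∑ x ∈ Finset.univ.filter (fun g : X => g ∈ Z), (c x : ℚ)
          ≤ ∑ _x ∈ Finset.univ.filter (fun g : X => g ∈ Z), (t : ℚ) :=
            Finset.sum_le_sum fun x _ => by exact_mod_cast hc1 x
        _ = z * t := by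
            rw [Finset.sum_const, hcardZ]
            simp [z]
    · calc ∑ x ∈ Finset.univ.filter (fun g : X => ¬ g ∈ Z), (c x : ℚ)
          ≤ ∑ _x ∈ Finset.univ.filter (fun g : X => ¬ g ∈ Z), ((t : ℚ) / q) := by
            refine Finset.sum_le_sum fun x hx => ?_
            rw [le_div_iff₀ hq0, mul_comm]
            exact_mod_cast hc2 x (Finset.mem_filter.mp hx).2
        _ = ((t : ℚ) - z) * (t / q) := by
            rw [Finset.sum_const, hcardZ', nsmul_eq_mul, Nat.cast_sub hZt]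
  have h1 : (Nat.card (ConjClasses X) : ℚ) * t ≤ (z + ((t : ℚ) - z) / q) * t := by
    have h2 : ((Nat.card (ConjClasses X) * t : ℕ) : ℚ) = ((∑ g, c g : ℕ) : ℚ) := by rw [hsum]
    rw [Nat.cast_mul] at h2
    rw [h2]
    calc ((∑ g, c g : ℕ) : ℚ) ≤ z * t + ((t : ℚ) - z) * (t / q) := hS
      _ = (z + ((t : ℚ) - z) / q) * t := by ring
  have h3 : (Nat.card (ConjClasses X) : ℚ) ≤ z + ((t : ℚ) - z) / q :=
    le_of_mul_le_mul_right h1 htQ
  have h4 : z ≤ t / q ^ 2 := by
    rw [le_div_iff₀ (by positivity), mul_comm]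
    have h' : (q : ℚ) ^ 2 * (Nat.card Z : ℚ) ≤ t := by exact_mod_cast hZ2
    exact h'
  rw [cp_eq hq.two_le]
  have h5 : z + ((t : ℚ) - z) / q = t / q + z * (1 - 1 / q) := by
    field_simp
    ring
  rw [h5] at h3
  have h6 : (0 : ℚ) ≤ 1 - 1 / q := by
    rw [sub_nonneg, div_le_one hq0]
    linarith
  have h7 : z * (1 - 1 / q) ≤ (t / q ^ 2) * (1 - 1 / q) := mul_le_mul_of_nonneg_right h4 h6
  calc (Nat.card (ConjClasses X) : ℚ) ≤ t / q + z * (1 - 1 / q) := h3
    _ ≤ t / q + (t / q ^ 2) * (1 - 1 / q) := by linarith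
    _ = _ := by ring

/-- A `q`-subgroup nonabelian: representatives of its classes. -/
theorem exists_reps_nonabelian {q : ℕ} (hq : q.Prime) (Q : Subgroup X) (hQ : IsPGroup q Q)
    (hna : ¬ IsAb Q) :
    ∃ Y : Finset X, (Y.card : ℚ) ≤ cp q * Nat.card Q ∧
      ∀ u ∈ Q, ∃ y ∈ Y, IsConj u y := by
  classical
  haveI : Fintype (ConjClasses Q) := Fintype.ofFinite _
  refine ⟨Finset.univ.image (fun C : ConjClasses Q => ((C.out : Q) : X)), ?_, ?_⟩
  · have h1 := card_conjClasses_le hq hQ (by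
      intro h
      apply hna
      intro a ha b hb
      exact congrArg Subtype.val (h ⟨a, ha⟩ ⟨b, hb⟩))
    have h2 : (Finset.univ.image (fun C : ConjClasses Q => ((C.out : Q) : X))).card ≤
        Nat.card (ConjClasses Q) := by
      rw [Nat.card_eq_fintype_card]
      exact Finset.card_image_le
    calc ((Finset.univ.image (fun C : ConjClasses Q => ((C.out : Q) : X))).card : ℚ)
        ≤ Nat.card (ConjClasses Q) := by exact_mod_cast h2
      _ ≤ _ := h1
  · intro u hu
    refine ⟨_, Finset.mem_image.mpr ⟨ConjClasses.mk ⟨u, hu⟩, Finset.mem_univ _, rfl⟩, ?_⟩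
    have h3 : IsConj (⟨u, hu⟩ : Q) (ConjClasses.mk (⟨u, hu⟩ : Q)).out :=
      ConjClasses.mk_eq_mk_iff_isConj.mp (Quotient.out_eq (ConjClasses.mk (⟨u, hu⟩ : Q))).symm
    obtain ⟨c, hc⟩ := isConj_iff.mp h3
    rw [isConj_iff]
    refine ⟨c, ?_⟩
    have := congrArg Subtype.val hc
    simpa using this

end pgroup

section core

variable {X : Type u} [Group X] [Finite X]

theorem mS_le_of_sub (S : Finset ℕ) (hS : ∀ r ∈ S, r.Prime) (Z : Subgroup X) : mS S Z ≤ mS S X :=
  Nat.le_of_dvd (mS_pos S hS X) (mS_dvd_of_dvd S (Subgroup.card_subgroup_dvd_card Z))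

theorem mS_sub_dvd (S : Finset ℕ) (Z : Subgroup X) : mS S Z ∣ mS S X :=
  mS_dvd_of_dvd S (Subgroup.card_subgroup_dvd_card Z)

/-- Conjugates of abelian subgroups are abelian. -/
theorem isAb_of_conj {H₁ H₂ : Subgroup X} {g : X} (hab : IsAb H₁)
    (h : ∀ x, x ∈ H₂ ↔ g⁻¹ * x * g ∈ H₁) : IsAb H₂ := by
  intro a ha b hb
  have h1 := hab _ ((h a).mp ha) _ ((h b).mp hb)
  have h2 : g⁻¹ * (a * b) * g = g⁻¹ * (b * a) * g := by
    calc g⁻¹ * (a * b) * g = (g⁻¹ * a * g) * (g⁻¹ * b * g) := by group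
      _ = (g⁻¹ * b * g) * (g⁻¹ * a * g) := h1
      _ = g⁻¹ * (b * a) * g := by group
  exact mul_left_cancel (mul_right_cancel h2)

theorem card_sylow_eq_mS {q : ℕ} [Fact q.Prime] (Q : Sylow q X) :
    Nat.card Q = mS {q} X := by
  simp [mS, Sylow.card_eq_multiplicity]

/-- The term bound when `Z` has no abelian subgroup of order `m'`. -/
theorem term_le_cp {S' : Finset ℕ} (hS' : ∀ r ∈ S', r.Prime) {p : ℕ} (hp : 2 ≤ p)
    (hpS : ∀ r ∈ S', p ≤ r)
    (IH : ∀ (Z : Type u) [Group Z] [Finite Z],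
      (¬ ∃ E : Subgroup Z, Nat.card E = mS S' Z ∧ IsAb E) → (kS S' Z : ℚ) ≤ cp p * mS S' Z)
    (Z : Subgroup X) (hno : ¬ ∃ E : Subgroup X, E ≤ Z ∧ IsAb E ∧ Nat.card E = mS S' X) :
    (kS S' Z : ℚ) ≤ cp p * mS S' X := by
  have hp0 : (0 : ℚ) < p := by exact_mod_cast (by omega : 0 < p)
  have hmpos : (0 : ℚ) ≤ (mS S' X : ℚ) := by positivity
  by_cases h : ∃ E : Subgroup Z, Nat.card E = mS S' Z ∧ IsAb E
  · obtain ⟨E, hE, hab⟩ := h
    have hne : mS S' Z ≠ mS S' X := by
      intro heq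
      apply hno
      refine ⟨E.map Z.subtype, ?_, ?_, ?_⟩
      · rintro _ ⟨x, -, rfl⟩
        exact x.2
      · rintro _ ⟨a, ha, rfl⟩ _ ⟨b, hb, rfl⟩
        exact congrArg Subtype.val (hab a ha b hb)
      · rw [← heq, ← hE]
        exact (Nat.card_congr (Subgroup.equivMapOfInjective E Z.subtype
          Subtype.val_injective).toEquiv).symm
    have h1 := mul_le_mS_of_dvd_of_ne hS' hpS (mS_sub_dvd S' Z) hne
    have h2 := kS_le_mS S' Z hS'
    have h3 : (kS S' Z : ℚ) ≤ mS S' X / p := by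
      rw [le_div_iff₀ hp0, mul_comm]
      have : p * kS S' Z ≤ mS S' X := (Nat.mul_le_mul_left p h2).trans h1
      exact_mod_cast this
    refine h3.trans ?_
    have h4 := mul_le_mul_of_nonneg_right (one_div_le_cp hp) hmpos
    calc (mS S' X : ℚ) / p = 1 / p * mS S' X := by ring
      _ ≤ _ := h4
  · have h1 := IH Z h
    refine h1.trans (mul_le_mul_of_nonneg_left ?_ (cp_nonneg hp))
    exact_mod_cast mS_le_of_sub S' hS' Z

/-- Commuting Hall subgroups give an abelian Hall subgroup. -/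
theorem exists_abelian_of_commute {q : ℕ} [Fact q.Prime] {S' : Finset ℕ} (hq : q ∉ S')
    (hS' : ∀ r ∈ S', r.Prime) {H' Q : Subgroup X} (habH : IsAb H') (habQ : IsAb Q)
    (hcardH : Nat.card H' = mS S' X) (hcardQ : Nat.card Q = mS {q} X)
    (hcomm : ∀ a ∈ H', ∀ b ∈ Q, a * b = b * a) :
    ∃ H : Subgroup X, Nat.card H = mS (insert q S') X ∧ IsAb H := by
  classical
  have hqp : q.Prime := Fact.out
  refine ⟨H' ⊔ Q, ?_, ?_⟩
  · have hN : Q ≤ Subgroup.normalizer (H' : Set X) := by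
      intro b hb
      rw [Subgroup.mem_normalizer_iff]
      intro a
      constructor
      · intro ha
        have : b * a * b⁻¹ = a := by
          rw [← hcomm a ha b hb]
          group
        rwa [this]
      · intro ha
        have h1 : b * a * b⁻¹ ∈ H' := ha
        have h2 := hcomm _ h1 b hb
        have h3 : b * a * b⁻¹ * b = b * (b * a * b⁻¹) := h2
        have h4 : a = b * a * b⁻¹ := by
          have : b * a = b * (b * a * b⁻¹) := by
            rw [← h3]
            group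
          exact mul_left_cancel this
        rwa [h4]
    have h := Cfsg.Agent.Lib.Basic.ProductCard.ncard_mul_mul_card_inf H' Q
    rw [← Subgroup.coe_mul_of_right_le_normalizer_left H' Q hN, ← Nat.card_coe_set_eq] at h
    have hcop : (Nat.card H').Coprime (Nat.card Q) := by
      apply Nat.coprime_of_dvd
      intro r hr h1 h2
      rw [hcardH] at h1
      rw [hcardQ] at h2
      have h3 := mem_of_prime_dvd_mS hS' hr h1
      have h4 := mem_of_prime_dvd_mS (S := {q}) (by simpa using hqp) hr h2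
      rw [Finset.mem_singleton] at h4
      exact hq (h4 ▸ h3)
    have hinf : H' ⊓ Q = ⊥ := by
      rw [eq_bot_iff]
      intro x hx
      have h1 : orderOf x ∣ Nat.card H' := Subgroup.orderOf_dvd_natCard H' hx.1
      have h2 : orderOf x ∣ Nat.card Q := Subgroup.orderOf_dvd_natCard Q hx.2
      have h3 := Nat.Coprime.eq_one_of_dvd (hcop.coprime_dvd_left h1) h2
      exact Subgroup.mem_bot.mpr (orderOf_eq_one_iff.mp h3)
    rw [hinf, Subgroup.card_bot, mul_one] at h
    have h5 : Nat.card ((H' ⊔ Q : Subgroup X) : Set X) = Nat.card (H' ⊔ Q : Subgroup X) := rfl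
    rw [h5] at h
    rw [h, hcardH, hcardQ, mS_insert q S' hq, mul_comm]
    simp [mS]
  · have h1 : H' ⊔ Q ≤ Subgroup.centralizer (H' : Set X) := by
      apply sup_le
      · intro a ha
        rw [Subgroup.mem_centralizer_iff]
        intro b hb
        exact habH b hb a ha
      · intro b hb
        rw [Subgroup.mem_centralizer_iff]
        intro a ha
        exact hcomm a ha b hb
    have h2 : H' ⊔ Q ≤ Subgroup.centralizer (Q : Set X) := by
      apply sup_le
      · intro a ha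
        rw [Subgroup.mem_centralizer_iff]
        intro b hb
        exact (hcomm a ha b hb).symm
      · intro a ha
        rw [Subgroup.mem_centralizer_iff]
        intro b hb
        exact habQ b hb a ha
    have h3 : H' ⊔ Q ≤ Subgroup.centralizer ((H' ⊔ Q : Subgroup X) : Set X) := by
      apply sup_le
      · intro a ha
        rw [Subgroup.mem_centralizer_iff]
        intro b hb
        exact ((Subgroup.mem_centralizer_iff.mp (h1 hb)) a ha).symm
      · intro a ha
        rw [Subgroup.mem_centralizer_iff]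
        intro b hb
        exact ((Subgroup.mem_centralizer_iff.mp (h2 hb)) a ha).symm
    intro a ha b hb
    exact Subgroup.mem_centralizer_iff.mp (h3 hb) a ha

open scoped Classical in
/-- Representatives for `v` acting on a subgroup `A`. -/
theorem exists_reps_subgroup (A : Subgroup X) (v : X) (hvA : ∀ x ∈ A, v * x * v⁻¹ ∈ A) (a : ℕ)
    (ha : ∀ d, d ∣ orderOf v → d ≠ 1 → a ≤ d) :
    ∃ Y : Finset X, (∀ y ∈ Y, y ∈ A) ∧ (∀ x ∈ A, ∃ i : ℕ, v ^ i * x * (v ^ i)⁻¹ ∈ Y) ∧
      (∀ x ∈ A, v * x = x * v → x ∈ Y) ∧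
      (Y.filter (fun x => v * x = x * v)).card = Nat.card (A ⊓ Subgroup.centralizer ({v} : Set X) : Subgroup X) ∧
      a * (Y.filter (fun x => ¬ v * x = x * v)).card +
        Nat.card (A ⊓ Subgroup.centralizer ({v} : Set X) : Subgroup X) ≤ Nat.card A := by
  classical
  obtain ⟨Y, hYA, hFY, hcov, hcard⟩ := exists_reps (fs A) v
    (fun x hx => mem_fs.mpr (hvA x (mem_fs.mp hx))) a ha
  set F := (fs A).filter (fun x => v * x = x * v) with hF
  have hF1 : F = fs (A ⊓ Subgroup.centralizer ({v} : Set X)) := by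
    ext x
    simp only [hF, Finset.mem_filter, mem_fs, Subgroup.mem_inf,
      Subgroup.mem_centralizer_singleton_iff]
    constructor
    · rintro ⟨h1, h2⟩
      exact ⟨h1, h2.symm⟩
    · rintro ⟨h1, h2⟩
      exact ⟨h1, h2.symm⟩
  have hFc : F.card = Nat.card (A ⊓ Subgroup.centralizer ({v} : Set X) : Subgroup X) := by
    rw [hF1, card_fs]
  have hY1 : Y.filter (fun x => v * x = x * v) = F := by
    ext x
    simp only [Finset.mem_filter, hF]
    constructor
    · rintro ⟨h1, h2⟩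
      exact ⟨hYA h1, h2⟩
    · intro h
      exact ⟨hFY (Finset.mem_filter.mpr h), h.2⟩
  have hY2 : Y.filter (fun x => ¬ v * x = x * v) = Y \ F := by
    ext x
    simp only [Finset.mem_filter, Finset.mem_sdiff, hF]
    constructor
    · rintro ⟨h1, h2⟩
      exact ⟨h1, fun h => h2 h.2⟩
    · rintro ⟨h1, h2⟩
      exact ⟨h1, fun h => h2 ⟨hYA h1, h⟩⟩
  refine ⟨Y, fun y hy => mem_fs.mp (hYA hy), fun x hx => hcov x (mem_fs.mpr hx), ?_, ?_, ?_⟩
  · intro x hx hc
    exact hFY (Finset.mem_filter.mpr ⟨mem_fs.mpr hx, hc⟩)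
  · rw [hY1, hFc]
  · rw [hY2, ← hFc]
    have h1 : F ⊆ fs A := Finset.filter_subset _ _
    have h2 := Finset.card_sdiff_add_card_eq_card h1
    rw [card_fs] at h2
    omega

/-- Numeric form of the bound on representatives. -/
theorem card_reps_le {n f : ℕ} {a : ℕ} (ha : 0 < a) {Y : Finset X} {P : X → Prop}
    [DecidablePred P] (h1 : (Y.filter P).card = f)
    (h2 : a * (Y.filter (fun x => ¬ P x)).card + f ≤ n) :
    (Y.card : ℚ) ≤ f + ((n : ℚ) - f) / a := by
  have ha' : (0 : ℚ) < a := by exact_mod_cast ha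
  have h3 : (Y.filter P).card + (Y.filter (fun x => ¬ P x)).card = Y.card :=
    Finset.card_filter_add_card_filter_not P
  have h4 : ((Y.filter (fun x => ¬ P x)).card : ℚ) ≤ ((n : ℚ) - f) / a := by
    rw [le_div_iff₀ ha', mul_comm]
    have : ((a * (Y.filter (fun x => ¬ P x)).card + f : ℕ) : ℚ) ≤ n := by exact_mod_cast h2
    push_cast at this
    linarith
  have h5 : (Y.card : ℚ) = f + ((Y.filter (fun x => ¬ P x)).card : ℚ) := by
    rw [← h3, h1]
    push_cast
    ring
  rw [h5]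
  linarith

/-- Bound: `f ≤ n / b` gives `f + (n - f)/a ≤ n/a + (n/b)(1 - 1/a)`. -/
theorem reps_num_le {n f a b : ℚ} (ha : 1 ≤ a) (hb : 0 < b) (h : b * f ≤ n) :
    f + (n - f) / a ≤ n / a + (n / b) * (1 - 1 / a) := by
  have ha0 : 0 < a := by linarith
  have h1 : f ≤ n / b := by
    rw [le_div_iff₀ hb, mul_comm]
    exact h
  have h2 : (0 : ℚ) ≤ 1 - 1 / a := by
    rw [sub_nonneg, div_le_one ha0]
    exact ha
  have h3 : f * (1 - 1 / a) ≤ (n / b) * (1 - 1 / a) := mul_le_mul_of_nonneg_right h1 h2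
  have h4 : f + (n - f) / a = n / a + f * (1 - 1 / a) := by
    field_simp
    ring
  rw [h4]
  linarith

/-- A sum split according to a predicate. -/
theorem sum_two_le {Y : Finset X} (P : X → Prop) [DecidablePred P] (f : X → ℚ) (a b : ℚ)
    (h1 : ∀ y ∈ Y, P y → f y ≤ a) (h2 : ∀ y ∈ Y, ¬ P y → f y ≤ b) :
    ∑ y ∈ Y, f y ≤ ((Y.filter P).card : ℚ) * a + ((Y.filter (fun x => ¬ P x)).card : ℚ) * b := by
  rw [← Finset.sum_filter_add_sum_filter_not Y P]
  apply add_le_add
  · calc ∑ x ∈ Y.filter P, f x ≤ ∑ _x ∈ Y.filter P, a := Finset.sum_le_sum fun x hx =>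
          h1 x (Finset.mem_filter.mp hx).1 (Finset.mem_filter.mp hx).2
      _ = _ := by rw [Finset.sum_const, nsmul_eq_mul]
  · calc ∑ x ∈ Y.filter (fun x => ¬ P x), f x ≤ ∑ _x ∈ Y.filter (fun x => ¬ P x), b :=
        Finset.sum_le_sum fun x hx =>
          h2 x (Finset.mem_filter.mp hx).1 (Finset.mem_filter.mp hx).2
      _ = _ := by rw [Finset.sum_const, nsmul_eq_mul]

/-- `mS` divides a number as soon as all its prime powers do. -/
theorem mS_dvd_of_forall {S : Finset ℕ} (hS : ∀ r ∈ S, r.Prime) {Z : Type u} [Group Z] [Finite Z]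
    {n : ℕ} (hn : n ≠ 0) (h : ∀ r ∈ S, (Nat.card Z).factorization r ≤ n.factorization r) :
    mS S Z ∣ n := by
  classical
  rw [← Nat.factorization_le_iff_dvd (mS_pos S hS Z).ne' hn]
  intro r
  by_cases hr : r ∈ S
  · rw [factorization_mS_of_mem hS Z hr]
    exact h r hr
  · by_cases hrp : r.Prime
    · rw [Nat.factorization_eq_zero_of_not_dvd (fun hd => hr (mem_of_prime_dvd_mS hS hrp hd))]
      exact Nat.zero_le _
    · rw [Nat.factorization_eq_zero_of_not_prime _ hrp]
      exact Nat.zero_le _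

/-- A Frattini argument for an abelian Hall subgroup of a normal subgroup. -/
theorem exists_mem_normalizer {S : Finset ℕ} (hS : ∀ r ∈ S, r.Prime) {Z H : Subgroup X}
    [Z.Normal] (hHZ : H ≤ Z) (hab : IsAb H) (hcard : Nat.card H = mS S Z) (g : X) :
    ∃ c ∈ Z, c⁻¹ * g ∈ Subgroup.normalizer (H : Set X) := by
  set H₂ : Subgroup X := H.map (MulAut.conj g).toMonoidHom with hH₂
  have h₂Z : H₂ ≤ Z := by
    rintro _ ⟨x, hx, rfl⟩
    exact (inferInstance : Z.Normal).conj_mem x (hHZ hx) g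
  have hc₂ : Nat.card H₂ = mS S Z := by
    rw [← hcard]
    exact (Nat.card_congr (Subgroup.equivMapOfInjective H _
      (MulAut.conj g).injective).toEquiv).symm
  obtain ⟨c, hc, hiff⟩ := exists_conj_sub hS hHZ h₂Z hab hcard hc₂
  refine ⟨c, hc, ?_⟩
  have hmem : ∀ x, x ∈ H₂ ↔ g⁻¹ * x * g ∈ H := by
    intro x
    constructor
    · rintro ⟨a, ha, rfl⟩
      simpa [MulAut.conj_apply, mul_assoc] using ha
    · intro h
      exact ⟨_, h, by simp [MulAut.conj_apply, mul_assoc]⟩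
  rw [Subgroup.mem_normalizer_iff]
  intro x
  have h0 : (c⁻¹ * g) * x * (c⁻¹ * g)⁻¹ = c⁻¹ * (g * x * g⁻¹) * c := by group
  rw [h0]
  constructor
  · intro hx
    have h1 : g * x * g⁻¹ ∈ H₂ := (hmem _).mpr (by simpa [mul_assoc] using hx)
    exact (hiff _ (h₂Z h1)).mp h1
  · intro hx
    have h1 : g * x * g⁻¹ ∈ Z := by
      have h2 : g * x * g⁻¹ = c * (c⁻¹ * (g * x * g⁻¹) * c) * c⁻¹ := by group
      rw [h2]
      exact Z.mul_mem (Z.mul_mem hc (hHZ hx)) (Z.inv_mem hc)
    have h3 := (hiff _ h1).mpr hx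
    have h4 := (hmem _).mp h3
    simpa [mul_assoc] using h4

/-- Counting form of the Frattini argument. -/
theorem card_frattini {S : Finset ℕ} (hS : ∀ r ∈ S, r.Prime) {Z H : Subgroup X}
    [Z.Normal] (hHZ : H ≤ Z) (hab : IsAb H) (hcard : Nat.card H = mS S Z) :
    Nat.card X * Nat.card (Z ⊓ Subgroup.normalizer (H : Set X) : Subgroup X) =
      Nat.card Z * Nat.card (Subgroup.normalizer (H : Set X)) := by
  have h := Cfsg.Agent.Lib.Basic.ProductCard.ncard_mul_mul_card_inf Z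
    (Subgroup.normalizer (H : Set X))
  have huniv : (Z : Set X) * ((Subgroup.normalizer (H : Set X) : Subgroup X) : Set X) = Set.univ := by
    ext g
    simp only [Set.mem_univ, iff_true]
    obtain ⟨c, hc, hn⟩ := exists_mem_normalizer hS hHZ hab hcard g
    exact ⟨c, hc, c⁻¹ * g, hn, by simp⟩
  rw [huniv, Set.ncard_univ] at h
  exact h

end core

section casei

variable {X : Type u} [Group X] [Finite X]

/-- Burnside's complement when `N(Q) ≤ C(Q)`. -/
theorem exists_complement_of_sylow {q : ℕ} [Fact q.Prime] (Q : Sylow q X)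
    (hQ : Subgroup.normalizer ((Q : Subgroup X) : Set X) ≤ Subgroup.centralizer ((Q : Subgroup X) : Set X)) :
    ∃ K : Subgroup X, K.Normal ∧ ¬ q ∣ Nat.card K ∧ ∀ x : X, ¬ q ∣ orderOf x → x ∈ K := by
  have hqp : q.Prime := Fact.out
  refine ⟨(MonoidHom.transferSylow Q hQ).ker, inferInstance,
    MonoidHom.not_dvd_card_ker_transferSylow Q hQ, ?_⟩
  intro x hx
  rw [MonoidHom.mem_ker]
  have h1 : orderOf (MonoidHom.transferSylow Q hQ x) ∣ orderOf x := orderOf_map_dvd _ x
  have h2 : orderOf (MonoidHom.transferSylow Q hQ x) ∣ Nat.card Q := orderOf_dvd_natCard _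
  rw [Sylow.card_eq_multiplicity] at h2
  obtain ⟨j, -, hj⟩ := (Nat.dvd_prime_pow hqp).mp h2
  rcases Nat.eq_zero_or_pos j with rfl | hjpos
  · rw [pow_zero] at hj
    exact orderOf_eq_one_iff.mp hj
  · exfalso
    rw [hj] at h1
    exact hx ((dvd_pow_self q hjpos.ne').trans h1)

/-- A `q`-Sylow subgroup normalizes an abelian Hall subgroup of a normal `q'`-subgroup. -/
theorem exists_sylow_le_normalizer {q : ℕ} [Fact q.Prime] {S' : Finset ℕ}
    (hS' : ∀ r ∈ S', r.Prime) {K H' : Subgroup X} [K.Normal] (hKq : ¬ q ∣ Nat.card K)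
    (hH'K : H' ≤ K) (hab : IsAb H') (hcard : Nat.card H' = mS S' X) :
    ∃ Q₁ : Sylow q X, (Q₁ : Subgroup X) ≤ Subgroup.normalizer (H' : Set X) := by
  have hqp : q.Prime := Fact.out
  set N₁ := Subgroup.normalizer (H' : Set X) with hN₁
  have h1 := card_frattini hS' hH'K hab (card_eq_mS_of_le hS' hH'K hcard)
  rw [← hN₁] at h1
  obtain ⟨P⟩ : Nonempty (Sylow q N₁) := inferInstance
  have hXpos : Nat.card X ≠ 0 := Nat.card_pos.ne'
  have h2 : q ^ (Nat.card X).factorization q ∣ Nat.card N₁ := by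
    have h3 : q ^ (Nat.card X).factorization q ∣ Nat.card K * Nat.card N₁ := by
      rw [← h1]
      exact (Nat.ordProj_dvd _ _).trans (Dvd.intro _ rfl)
    exact ((Nat.Prime.coprime_iff_not_dvd hqp).mpr hKq).pow_left _ |>.dvd_of_dvd_mul_left h3
  have h4 : (Nat.card X).factorization q = (Nat.card N₁).factorization q := by
    apply le_antisymm
    · exact (hqp.pow_dvd_iff_le_factorization Nat.card_pos.ne').mp h2
    · exact (Nat.factorization_le_iff_dvd Nat.card_pos.ne' hXpos).mpr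
        (Subgroup.card_subgroup_dvd_card N₁) q
  refine ⟨Sylow.ofCard ((P : Subgroup N₁).map N₁.subtype) ?_, ?_⟩
  · rw [h4, ← Sylow.card_eq_multiplicity P]
    exact (Nat.card_congr (Subgroup.equivMapOfInjective (P : Subgroup N₁) N₁.subtype
      Subtype.val_injective).toEquiv).symm
  · rw [Sylow.coe_ofCard]
    rintro _ ⟨x, -, rfl⟩
    exact x.2

/-- The Sylow subgroup of an abelian group contains all its `r`-elements. -/
theorem mem_sylow_of_isAb {r : ℕ} [Fact r.Prime] {H : Subgroup X} (hab : IsAb H) (R : Sylow r H)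
    {z : X} (hz : z ∈ H) {k : ℕ} (hk : z ^ (r ^ k) = 1) : z ∈ (R : Subgroup H).map H.subtype := by
  have hrp : r.Prime := Fact.out
  have h1 : orderOf (⟨z, hz⟩ : H) ∣ r ^ k := by
    apply orderOf_dvd_of_pow_eq_one
    apply Subtype.ext
    simpa using hk
  obtain ⟨j, -, hj⟩ := (Nat.dvd_prime_pow hrp).mp h1
  obtain ⟨P, hP⟩ := Cfsg.Agent.Lib.Basic.SylowUtil.exists_sylow_of_orderOf hj
  have hn : (P : Subgroup H).Normal := ⟨fun n hn g => by
    have : g * n * g⁻¹ = n := by
      apply Subtype.ext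
      have h1 : (g : X) * n = n * g := hab _ g.2 _ n.2
      show (g : X) * n * (g : X)⁻¹ = n
      rw [h1]
      group
    rwa [this]⟩
  have hle : (P : Subgroup H) ≤ R := IsPGroup.le_sylow_of_normal P.isPGroup' R
  exact ⟨⟨z, hz⟩, hle hP, rfl⟩

/-- The `S'`-part of `C(y)` divides `|C_{H'}(y)|` when the `q`-element `y` normalizes the abelian
Hall subgroup `H'` of the normal `q'`-subgroup `K`. -/
theorem mS_centralizer_dvd {q : ℕ} [Fact q.Prime] {S' : Finset ℕ} (hS' : ∀ r ∈ S', r.Prime)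
    (hq : q ∉ S') {K H' : Subgroup X} [K.Normal] (hKq : ¬ q ∣ Nat.card K)
    (hKq' : ∀ x : X, ¬ q ∣ orderOf x → x ∈ K) (hH'K : H' ≤ K) (hab : IsAb H')
    (hcard : Nat.card H' = mS S' X) {y : X} {n : ℕ} (hy : orderOf y = q ^ n)
    (hyN : y ∈ Subgroup.normalizer (H' : Set X)) :
    mS S' (Subgroup.centralizer ({y} : Set X)) ∣
      Nat.card (H' ⊓ Subgroup.centralizer ({y} : Set X) : Subgroup X) := by
  classical
  have hqp : q.Prime := Fact.out
  apply mS_dvd_of_forall hS' Nat.card_pos.ne'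
  intro r hr
  have hrp := hS' r hr
  haveI : Fact r.Prime := ⟨hrp⟩
  have hrq : r ≠ q := fun h => hq (h ▸ hr)
  set Cy := Subgroup.centralizer ({y} : Set X) with hCy
  obtain ⟨R₀⟩ : Nonempty (Sylow r Cy) := inferInstance
  set U : Subgroup X := (R₀ : Subgroup Cy).map Cy.subtype with hU
  have hUcard : Nat.card U = r ^ (Nat.card Cy).factorization r := by
    rw [← Sylow.card_eq_multiplicity R₀]
    exact (Nat.card_congr (Subgroup.equivMapOfInjective (R₀ : Subgroup Cy) Cy.subtype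
      Subtype.val_injective).toEquiv).symm
  have hUp : IsPGroup r U := IsPGroup.of_card hUcard
  have hUC : U ≤ Cy := by
    rintro _ ⟨x, -, rfl⟩
    exact x.2
  have hUK : U ≤ K := by
    intro x hx
    apply hKq'
    intro hd
    obtain ⟨k, hk⟩ := hUp ⟨x, hx⟩
    have h1 : orderOf x ∣ r ^ k := by
      apply orderOf_dvd_of_pow_eq_one
      have := congrArg Subtype.val hk
      simpa using this
    exact hrq ((Nat.prime_dvd_prime_iff_eq hqp hrp).mp (hqp.dvd_of_dvd_pow (hd.trans h1))).symm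
  set A := Subgroup.zpowers y with hA
  have hAK : A ≤ Subgroup.normalizer (K : Set X) := by
    rw [Subgroup.normalizer_eq_top]
    exact le_top
  have hcop : (Nat.card A).Coprime (Nat.card K) := by
    rw [Nat.card_zpowers, hy]
    exact Nat.Coprime.pow_left _ ((Nat.Prime.coprime_iff_not_dvd hqp).mpr hKq)
  have hsolv : Group.IsSolvable A ∨ Group.IsSolvable K := Or.inl inferInstance
  have hUA : A ≤ Subgroup.normalizer (U : Set X) := by
    apply Cfsg.Agent.Lib.Coprime.InvSylow.le_normalizer_of_forall_conj_mem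
    intro a ha x hx
    obtain ⟨j, rfl⟩ := Subgroup.mem_zpowers_iff.mp ha
    have h1 : y * x = x * y := (Subgroup.mem_centralizer_singleton_iff.mp (hUC hx)).symm
    have h2 : Commute (y ^ j) x := (Commute.zpow_left h1 j)
    have h3 : y ^ j * x * (y ^ j)⁻¹ = x := by
      rw [h2.eq]
      group
    rwa [h3]
  obtain ⟨P, hUP, hPA⟩ := Cfsg.Agent.Lib.Coprime.InvSylow.exists_invariant_sylow_ge hAK hcop hsolv
    r U hUK hUp hUA
  obtain ⟨R₁'⟩ : Nonempty (Sylow r H') := inferInstance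
  set R₁ : Subgroup X := (R₁' : Subgroup H').map H'.subtype with hR₁
  have hR₁H : R₁ ≤ H' := by
    rintro _ ⟨x, -, rfl⟩
    exact x.2
  have hXne : Nat.card X ≠ 0 := Nat.card_pos.ne'
  have hR₁card : Nat.card R₁ = r ^ (Nat.card X).factorization r := by
    have h1 : Nat.card R₁ = r ^ (Nat.card H').factorization r := by
      rw [← Sylow.card_eq_multiplicity R₁']
      exact (Nat.card_congr (Subgroup.equivMapOfInjective (R₁' : Subgroup H') H'.subtype
        Subtype.val_injective).toEquiv).symm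
    rw [h1, hcard, factorization_mS_of_mem hS' X hr]
  have hfacK : (Nat.card K).factorization r = (Nat.card X).factorization r := by
    apply le_antisymm
    · exact (Nat.factorization_le_iff_dvd Nat.card_pos.ne' hXne).mpr
        (Subgroup.card_subgroup_dvd_card K) r
    · have h2 : Nat.card R₁ ∣ Nat.card K := Subgroup.card_dvd_of_le (hR₁H.trans hH'K)
      rw [hR₁card] at h2
      exact (hrp.pow_dvd_iff_le_factorization Nat.card_pos.ne').mp h2
  let R₂ : Sylow r K := Sylow.ofCard (R₁.subgroupOf K) (by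
    rw [card_subgroupOf_of_le (hR₁H.trans hH'K), hR₁card, hfacK])
  have hR₂map : ((R₂ : Subgroup K).map K.subtype) = R₁ := by
    rw [Sylow.coe_ofCard, Subgroup.subgroupOf_map_subtype, inf_of_le_left (hR₁H.trans hH'K)]
  have hR₂A : A ≤ Subgroup.normalizer (((R₂ : Subgroup K).map K.subtype : Subgroup X) : Set X) := by
    rw [hR₂map]
    apply Cfsg.Agent.Lib.Coprime.InvSylow.le_normalizer_of_forall_conj_mem
    intro a ha x hx
    have haN : a ∈ Subgroup.normalizer (H' : Set X) :=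
      (Subgroup.zpowers_le.mpr hyN) ha
    have h1 : a * x * a⁻¹ ∈ H' := (Subgroup.mem_normalizer_iff.mp haN x).mp (hR₁H hx)
    have hxp : IsPGroup r R₁ := IsPGroup.of_card hR₁card
    obtain ⟨k, hk⟩ := hxp ⟨x, hx⟩
    have hk' : x ^ (r ^ k) = 1 := by
      have := congrArg Subtype.val hk
      simpa using this
    have h2 : (a * x * a⁻¹) ^ (r ^ k) = 1 := by
      rw [conj_pow, hk']
      group
    exact mem_sylow_of_isAb hab R₁' h1 h2
  obtain ⟨c, hcC, hcP⟩ := Cfsg.Agent.Lib.Coprime.InvSylow.invariant_sylow_conj hAK hcop hsolv r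
    P R₂ hPA hR₂A
  -- `c U c⁻¹` lies in `H' ⊓ C(y)`
  set W : Subgroup X := U.map (MulAut.conj (c : X)).toMonoidHom with hW
  have hWcard : Nat.card W = Nat.card U :=
    (Nat.card_congr (Subgroup.equivMapOfInjective U _ (MulAut.conj (c : X)).injective).toEquiv).symm
  have hcy : (c : X) * y = y * c := by
    have := Subgroup.mem_centralizer_iff.mp hcC y (Subgroup.mem_zpowers y)
    exact this.symm
  have hWle : W ≤ H' ⊓ Cy := by
    rintro _ ⟨x, hx, rfl⟩
    have hx2 : (MulAut.conj (c : X)).toMonoidHom x = c * x * (c : X)⁻¹ := rfl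
    rw [hx2]
    constructor
    · apply hR₁H
      rw [← hR₂map]
      obtain ⟨x', hx', hxx⟩ := hUP hx
      refine ⟨c * x' * c⁻¹, ?_, ?_⟩
      · show (c * x' * c⁻¹ : K) ∈ ((R₂ : Subgroup K) : Set K)
        rw [← hcP]
        exact Subgroup.smul_mem_pointwise_smul x' (MulAut.conj c) (P : Subgroup K) hx'
      · show ((c * x' * c⁻¹ : K) : X) = _
        rw [← hxx]
        simp
    · show (c : X) * x * (c : X)⁻¹ ∈ Cy
      rw [hCy, Subgroup.mem_centralizer_singleton_iff]
      have h1 : x * y = y * x := Subgroup.mem_centralizer_singleton_iff.mp (hUC hx)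
      have hcinv : (c : X)⁻¹ * y = y * (c : X)⁻¹ := by
        calc (c : X)⁻¹ * y = (c : X)⁻¹ * (y * c) * (c : X)⁻¹ := by group
          _ = (c : X)⁻¹ * (c * y) * (c : X)⁻¹ := by rw [hcy]
          _ = y * (c : X)⁻¹ := by group
      calc (c : X) * x * (c : X)⁻¹ * y = c * x * ((c : X)⁻¹ * y) := by group
        _ = c * x * (y * (c : X)⁻¹) := by rw [hcinv]
        _ = c * (x * y) * (c : X)⁻¹ := by group
        _ = c * (y * x) * (c : X)⁻¹ := by rw [h1]
        _ = (c * y) * x * (c : X)⁻¹ := by group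
        _ = (y * c) * x * (c : X)⁻¹ := by rw [hcy]
        _ = _ := by group
  have hdvd : r ^ (Nat.card Cy).factorization r ∣ Nat.card (H' ⊓ Cy : Subgroup X) := by
    rw [← hUcard, ← hWcard]
    exact Subgroup.card_dvd_of_le hWle
  exact (hrp.pow_dvd_iff_le_factorization Nat.card_pos.ne').mp hdvd

end casei

section casei2

variable {X : Type u} [Group X] [Finite X]

theorem num_i {p q t m n₀ n₁ R b k : ℚ} (hp : 2 ≤ p) (hpq : p ≤ q) (ht : 0 ≤ t) (hm : 0 ≤ m)
    (hk : k ≤ n₀ * R + n₁ * b) (hn : n₀ + n₁ = t) (hn0 : 0 ≤ n₀) (hn1 : 0 ≤ n₁) (hb : b ≤ m / p)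
    (hR : R ≤ m / q + (m / p) * (1 - 1 / q)) (hqn : q * n₀ ≤ t) :
    k ≤ (1 / p + (1 - 1 / p) / p ^ 2) * (t * m) := by
  have hp0 : 0 < p := by linarith
  have hq0 : 0 < q := by linarith
  have e0 : n₀ * R + n₁ * b ≤ n₀ * (m / q + (m / p) * (1 - 1 / q)) + n₁ * (m / p) :=
    add_le_add (mul_le_mul_of_nonneg_left hR hn0) (mul_le_mul_of_nonneg_left hb hn1)
  have e1 : n₀ * (m / q + (m / p) * (1 - 1 / q)) + n₁ * (m / p) =
      t * (m / p) + n₀ * ((m / q) * (1 - 1 / p)) := by
    rw [← hn]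
    field_simp
    ring
  have e2 : n₀ ≤ t / q := by
    rw [le_div_iff₀ hq0, mul_comm]
    exact hqn
  have e2' : (0 : ℚ) ≤ 1 - 1 / p := by
    rw [sub_nonneg, div_le_one hp0]
    linarith
  have e3 : 0 ≤ (m / q) * (1 - 1 / p) := mul_nonneg (div_nonneg hm hq0.le) e2'
  have e4 := mul_le_mul_of_nonneg_right e2 e3
  have e5 : (t / q) * ((m / q) * (1 - 1 / p)) = (t * m) * (1 - 1 / p) * (1 / q ^ 2) := by
    field_simp
  have e6 : 1 / q ^ 2 ≤ 1 / p ^ 2 := by
    apply one_div_le_one_div_of_le (by positivity)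
    nlinarith
  have e7 : (t * m) * (1 - 1 / p) * (1 / q ^ 2) ≤ (t * m) * (1 - 1 / p) * (1 / p ^ 2) :=
    mul_le_mul_of_nonneg_left e6 (mul_nonneg (mul_nonneg ht hm) e2')
  have e8 : (1 / p + (1 - 1 / p) / p ^ 2) * (t * m) =
      t * (m / p) + (t * m) * (1 - 1 / p) * (1 / p ^ 2) := by
    field_simp
  rw [e8]
  linarith

/-- An element of a `q`-group has order a power of `q`. -/
theorem orderOf_of_mem_pgroup {q : ℕ} [Fact q.Prime] {Q : Subgroup X} (hQ : IsPGroup q Q) {y : X}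
    (hy : y ∈ Q) : ∃ n, orderOf y = q ^ n := by
  obtain ⟨n, hn⟩ := IsPGroup.iff_orderOf.mp hQ ⟨y, hy⟩
  exact ⟨n, by simpa [Subgroup.orderOf_mk] using hn⟩

theorem le_of_dvd_ne_one_of_pow {q n d : ℕ} (hq : q.Prime) (hd : d ∣ q ^ n) (h1 : d ≠ 1) :
    q ≤ d := by
  obtain ⟨j, -, rfl⟩ := (Nat.dvd_prime_pow hq).mp hd
  have hj : j ≠ 0 := by
    rintro rfl
    exact h1 (pow_zero q)
  exact Nat.le_self_pow hj q

theorem not_dvd_mS {q : ℕ} {S' : Finset ℕ} (hS' : ∀ r ∈ S', r.Prime) (hq : q ∉ S') (hqp : q.Prime)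
    (Y : Type u) [Group Y] : ¬ q ∣ mS S' Y :=
  fun h => hq (mem_of_prime_dvd_mS hS' hqp h)

/-- Case `N(Q) ≤ C(Q)`. -/
theorem case_i {S' : Finset ℕ} (hS' : ∀ r ∈ S', r.Prime) {p : ℕ} (hp : 2 ≤ p)
    (hpS : ∀ r ∈ S', p ≤ r) {q : ℕ} [Fact q.Prime] (hq : q ∉ S') (hpq : p ≤ q)
    {H' : Subgroup X} (habH : IsAb H') (hcardH : Nat.card H' = mS S' X)
    (hQab : ∀ Q : Sylow q X, IsAb (Q : Subgroup X))
    {K : Subgroup X} [K.Normal] (hKq : ¬ q ∣ Nat.card K)
    (hKq' : ∀ x : X, ¬ q ∣ orderOf x → x ∈ K)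
    (hnc : ∀ Q : Sylow q X, ¬ ∀ a ∈ H', ∀ b ∈ (Q : Subgroup X), a * b = b * a) :
    (kS (insert q S') X : ℚ) ≤ cp p * mS (insert q S') X := by
  classical
  have hqp : q.Prime := Fact.out
  set m' := mS S' X with hm'
  have hH'K : H' ≤ K := by
    intro x hx
    apply hKq'
    intro hd
    have h1 : orderOf x ∣ Nat.card H' := Subgroup.orderOf_dvd_natCard H' hx
    rw [hcardH] at h1
    exact not_dvd_mS hS' hq hqp X (hd.trans h1)
  obtain ⟨Q₁, hQ₁⟩ := exists_sylow_le_normalizer hS' hKq hH'K habH hcardH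
  have hnc1 := hnc Q₁
  push Not at hnc1
  obtain ⟨a, ha, v, hv, hav⟩ := hnc1
  have hvN : v ∈ Subgroup.normalizer (H' : Set X) := hQ₁ hv
  have hvA : ∀ x ∈ H', v * x * v⁻¹ ∈ H' := fun x hx =>
    (Subgroup.mem_normalizer_iff.mp hvN x).mp hx
  obtain ⟨kv, hkv⟩ := orderOf_of_mem_pgroup Q₁.isPGroup' hv
  obtain ⟨Yv, -, hYvcov, -, hYvF, hYv2⟩ := exists_reps_subgroup H' v hvA q (by
    intro d hd h1
    rw [hkv] at hd
    exact le_of_dvd_ne_one_of_pow hqp hd h1)
  set D : Subgroup X := H' ⊓ Subgroup.centralizer ({v} : Set X) with hD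
  have hDcard : p * Nat.card D ≤ m' := by
    apply mul_le_mS_of_dvd_of_ne hS' hpS
    · have := Subgroup.card_dvd_of_le (inf_le_left : D ≤ H')
      rwa [hcardH] at this
    · intro h
      have h2 : D = H' := Subgroup.eq_of_le_of_card_ge inf_le_left (by rw [h, hcardH])
      have h3 : a ∈ D := by rw [h2]; exact ha
      exact hav (Subgroup.mem_centralizer_singleton_iff.mp h3.2)
  have hp0 : (0 : ℚ) < p := by exact_mod_cast (by omega : 0 < p)
  have hq0 : (0 : ℚ) < q := by exact_mod_cast hqp.pos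
  have hR0 := card_reps_le (a := q) (n := Nat.card H') (f := Nat.card D) hqp.pos hYvF hYv2
  have hR : (Yv.card : ℚ) ≤ (m' : ℚ) / q + ((m' : ℚ) / p) * (1 - 1 / q) := by
    refine hR0.trans ?_
    rw [hcardH]
    apply reps_num_le (by exact_mod_cast hqp.one_lt.le) hp0
    exact_mod_cast hDcard
  -- the sum
  have hsum := kS_le_sum (insert q S') {q} S' (fs (Q₁ : Subgroup X)) (dec_q q S') (by
      intro u hu
      obtain ⟨g, hg⟩ := exists_conj_mem_sylow Q₁ hu
      exact ⟨_, mem_fs.mpr hg, isConj_iff.mpr ⟨g, rfl⟩⟩)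
  let P : X → Prop := fun y => ∀ a ∈ H', a * y = y * a
  have hterm1 : ∀ y ∈ fs (Q₁ : Subgroup X), P y →
      (kS S' (Subgroup.centralizer ({y} : Set X)) : ℚ) ≤ Yv.card := by
    intro y hy hPy
    have hyQ := mem_fs.mp hy
    have hH'C : H' ≤ Subgroup.centralizer ({y} : Set X) := by
      intro x hx
      exact Subgroup.mem_centralizer_singleton_iff.mpr (hPy x hx)
    have hvC : v ∈ Subgroup.centralizer ({y} : Set X) :=
      Subgroup.mem_centralizer_singleton_iff.mpr (hQab Q₁ v hv y hyQ)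
    have := kS_subgroup_le (Subgroup.centralizer ({y} : Set X)) S' Yv (by
      intro x hx hxS
      obtain ⟨c, hc, hcx⟩ := exists_conj_mem_sub hS' hH'C habH
        (card_eq_mS_of_le hS' hH'C hcardH) hx hxS
      obtain ⟨i, hi⟩ := hYvcov _ hcx
      refine ⟨_, hi, v ^ i * c, Subgroup.mul_mem _ (Subgroup.pow_mem _ hvC i) hc, ?_⟩
      group)
    exact_mod_cast this
  have hterm2 : ∀ y ∈ fs (Q₁ : Subgroup X), ¬ P y →
      (kS S' (Subgroup.centralizer ({y} : Set X)) : ℚ) ≤ (m' : ℚ) / p := by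
    intro y hy hPy
    have hyQ := mem_fs.mp hy
    obtain ⟨n, hn⟩ := orderOf_of_mem_pgroup Q₁.isPGroup' hyQ
    have h1 := mS_centralizer_dvd hS' hq hKq hKq' hH'K habH hcardH hn (hQ₁ hyQ)
    have h2 := kS_le_mS S' (Subgroup.centralizer ({y} : Set X)) hS'
    have h3 := Nat.le_of_dvd Nat.card_pos h1
    have h4 : p * Nat.card (H' ⊓ Subgroup.centralizer ({y} : Set X) : Subgroup X) ≤ m' := by
      apply mul_le_mS_of_dvd_of_ne hS' hpS
      · have := Subgroup.card_dvd_of_le
          (inf_le_left : (H' ⊓ Subgroup.centralizer ({y} : Set X) : Subgroup X) ≤ H')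
        rwa [hcardH] at this
      · intro h
        have h5 : (H' ⊓ Subgroup.centralizer ({y} : Set X) : Subgroup X) = H' :=
          Subgroup.eq_of_le_of_card_ge inf_le_left (by rw [h, hcardH])
        apply hPy
        intro a ha
        have h6 : a ∈ (H' ⊓ Subgroup.centralizer ({y} : Set X) : Subgroup X) := by
          rw [h5]; exact ha
        exact (Subgroup.mem_centralizer_singleton_iff.mp h6.2)
    rw [le_div_iff₀ hp0, mul_comm]
    have h7 : p * kS S' (Subgroup.centralizer ({y} : Set X)) ≤ m' :=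
      (Nat.mul_le_mul_left p (h2.trans h3)).trans h4
    exact_mod_cast h7
  have hs2 := sum_two_le (Y := fs (Q₁ : Subgroup X)) P
    (fun y => (kS S' (Subgroup.centralizer ({y} : Set X)) : ℚ)) (Yv.card : ℚ) ((m' : ℚ) / p)
    hterm1 hterm2
  set n₀ := ((fs (Q₁ : Subgroup X)).filter P).card with hn₀
  set n₁ := ((fs (Q₁ : Subgroup X)).filter (fun x => ¬ P x)).card with hn₁
  have hn01 : n₀ + n₁ = Nat.card (Q₁ : Subgroup X) := by
    rw [hn₀, hn₁, Finset.card_filter_add_card_filter_not, card_fs]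
  -- `n₀` is small
  have hD₁ : ((fs (Q₁ : Subgroup X)).filter P) =
      fs ((Q₁ : Subgroup X) ⊓ Subgroup.centralizer (H' : Set X)) := by
    ext x
    simp only [Finset.mem_filter, mem_fs, Subgroup.mem_inf, Subgroup.mem_centralizer_iff, P]
    exact Iff.rfl
  have hn0le : q * n₀ ≤ Nat.card (Q₁ : Subgroup X) := by
    rw [hn₀, hD₁, card_fs]
    apply mul_card_le_of_lt hqp Q₁.isPGroup' inf_le_left
    intro h
    have h2 : v ∈ ((Q₁ : Subgroup X) ⊓ Subgroup.centralizer (H' : Set X) : Subgroup X) := by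
      rw [h]; exact hv
    exact hav (Subgroup.mem_centralizer_iff.mp h2.2 a ha)
  have hk : (kS (insert q S') X : ℚ) ≤ (n₀ : ℚ) * Yv.card + (n₁ : ℚ) * ((m' : ℚ) / p) := by
    refine le_trans ?_ hs2
    exact_mod_cast hsum
  have ht : (n₀ : ℚ) + n₁ = (Nat.card (Q₁ : Subgroup X) : ℚ) := by exact_mod_cast hn01
  have hfinal := num_i (p := p) (q := q) (t := (Nat.card (Q₁ : Subgroup X) : ℚ)) (m := m')
    (n₀ := n₀) (n₁ := n₁) (R := Yv.card) (b := (m' : ℚ) / p)
    (by exact_mod_cast hp) (by exact_mod_cast hpq) (by positivity) (by positivity) hk ht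
    (by positivity) (by positivity) le_rfl hR (by exact_mod_cast hn0le)
  rw [cp_eq hp, mS_insert q S' hq]
  rw [Sylow.card_eq_multiplicity] at hfinal
  push_cast
  push_cast at hfinal
  exact hfinal

end casei2

section caseii

variable {X : Type u} [Group X] [Finite X]

/-- No fusion in an abelian Hall subgroup `E` with `N(E) ≤ C(E)`. -/
theorem no_fusion {S' : Finset ℕ} (hS' : ∀ r ∈ S', r.Prime) {E : Subgroup X} (hab : IsAb E)
    (hcard : Nat.card E = mS S' X)
    (hW : Subgroup.normalizer (E : Set X) ≤ Subgroup.centralizer (E : Set X)) {x g : X}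
    (hx : x ∈ E) (hg : g * x * g⁻¹ ∈ E) : g * x * g⁻¹ = x := by
  set w := g * x * g⁻¹ with hw
  set Z := Subgroup.centralizer ({w} : Set X) with hZ
  have hEZ : E ≤ Z := fun a ha => Subgroup.mem_centralizer_singleton_iff.mpr (hab a ha w hg)
  set E₂ : Subgroup X := E.map (MulAut.conj g).toMonoidHom with hE₂
  have hconj : ∀ a, (MulAut.conj g).toMonoidHom a = g * a * g⁻¹ := fun a => rfl
  have hE₂Z : E₂ ≤ Z := by
    rintro _ ⟨a, ha, rfl⟩
    rw [hconj]
    apply Subgroup.mem_centralizer_singleton_iff.mpr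
    have h1 := hab a ha x hx
    rw [hw]
    calc g * a * g⁻¹ * (g * x * g⁻¹) = g * (a * x) * g⁻¹ := by group
      _ = g * (x * a) * g⁻¹ := by rw [h1]
      _ = _ := by group
  have hc₁ := card_eq_mS_of_le hS' hEZ hcard
  have hc₂ : Nat.card E₂ = mS S' Z := by
    rw [← hc₁]
    exact (Nat.card_congr (Subgroup.equivMapOfInjective E _
      (MulAut.conj g).injective).toEquiv).symm
  obtain ⟨c, hc, hiff⟩ := exists_conj_sub hS' hEZ hE₂Z hab hc₁ hc₂
  have hn : c⁻¹ * g ∈ Subgroup.normalizer (E : Set X) := by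
    rw [Subgroup.mem_normalizer_iff]
    intro a
    have h0 : (c⁻¹ * g) * a * (c⁻¹ * g)⁻¹ = c⁻¹ * (g * a * g⁻¹) * c := by group
    rw [h0]
    constructor
    · intro ha
      have h1 : g * a * g⁻¹ ∈ E₂ := ⟨a, ha, rfl⟩
      exact (hiff _ (hE₂Z h1)).mp h1
    · intro ha
      have h1 : g * a * g⁻¹ ∈ Z := by
        have h2 : g * a * g⁻¹ = c * (c⁻¹ * (g * a * g⁻¹) * c) * c⁻¹ := by group
        rw [h2]
        exact Z.mul_mem (Z.mul_mem hc (hEZ ha)) (Z.inv_mem hc)
      obtain ⟨b, hb, hbe⟩ := (hiff _ h1).mpr ha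
      rw [hconj] at hbe
      have : b = a := by
        have h3 : g * b * g⁻¹ = g * a * g⁻¹ := hbe
        exact mul_left_cancel (mul_right_cancel h3)
      rwa [← this]
  have h1 := Subgroup.mem_centralizer_iff.mp (hW hn) x hx
  have h2 : (c⁻¹ * g) * x * (c⁻¹ * g)⁻¹ = x := by
    rw [← h1]
    group
  have h3 : (c⁻¹ * g) * x * (c⁻¹ * g)⁻¹ = c⁻¹ * w * c := by
    rw [hw]
    group
  have h4 : c * w = w * c := Subgroup.mem_centralizer_singleton_iff.mp hc
  have h5 : c⁻¹ * w * c = w := by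
    calc c⁻¹ * w * c = c⁻¹ * (w * c) := by group
      _ = c⁻¹ * (c * w) := by rw [h4]
      _ = w := by group
  rw [h3, h5] at h2
  exact h2

open scoped IsMulCommutative in
/-- Transfer: a normal complement of an abelian Hall subgroup without fusion. -/
theorem exists_hall_complement {S' : Finset ℕ} (hS' : ∀ r ∈ S', r.Prime) {E : Subgroup X}
    (hab : IsAb E) (hcard : Nat.card E = mS S' X)
    (hW : Subgroup.normalizer (E : Set X) ≤ Subgroup.centralizer (E : Set X)) :
    ∃ K' : Subgroup X, K'.Normal ∧ Nat.card K' * Nat.card E = Nat.card X ∧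
      (∀ a b : X, a * b * a⁻¹ * b⁻¹ ∈ K') ∧
      (∀ x : X, (orderOf x).Coprime (Nat.card E) → x ∈ K') := by
  classical
  haveI : IsMulCommutative E := isMulCommutative_of_isAb hab
  let T : X →* E := MonoidHom.transfer (MonoidHom.id E)
  have hkey : ∀ g ∈ E, ∀ (k : ℕ) (g₀ : X), g₀⁻¹ * g ^ k * g₀ ∈ E → g₀⁻¹ * g ^ k * g₀ = g ^ k := by
    intro g hg k g₀ h
    have := no_fusion hS' hab hcard hW (E.pow_mem hg k) (g := g₀⁻¹) (by simpa using h)
    simpa using this
  have hT : ∀ g (hg : g ∈ E), ((T g : E) : X) = g ^ E.index := by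
    intro g hg
    have := MonoidHom.transfer_eq_pow (MonoidHom.id E) g (hkey g hg)
    simpa [T] using congrArg Subtype.val this
  have hcop := coprime_index_of_card_eq_mS hS' E hcard
  have hsurj : Function.Surjective T := by
    intro e
    refine ⟨(((powCoprime hcop).symm e : E) : X), ?_⟩
    apply Subtype.ext
    rw [hT _ ((powCoprime hcop).symm e).2]
    have h1 : (powCoprime hcop) ((powCoprime hcop).symm e) = e := Equiv.apply_symm_apply _ _
    have h2 := congrArg Subtype.val h1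
    rw [powCoprime_apply] at h2
    simpa using h2
  refine ⟨T.ker, inferInstance, ?_, ?_, ?_⟩
  · have h1 := Subgroup.card_eq_card_quotient_mul_card_subgroup T.ker
    have h2 : Nat.card (X ⧸ T.ker) = Nat.card E :=
      Nat.card_congr (QuotientGroup.quotientKerEquivOfSurjective T hsurj).toEquiv
    rw [h2] at h1
    rw [h1, mul_comm]
  · intro a b
    rw [MonoidHom.mem_ker, map_mul, map_mul, map_mul, map_inv, map_inv]
    have h1 : T a * T b = T b * T a := Subtype.ext (hab _ (T a).2 _ (T b).2)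
    rw [h1]
    group
  · intro x hx
    rw [MonoidHom.mem_ker]
    have h1 : orderOf (T x) ∣ orderOf x := orderOf_map_dvd _ x
    have h2 : orderOf (T x) ∣ Nat.card E := orderOf_dvd_natCard _
    exact orderOf_eq_one_iff.mp (Nat.Coprime.eq_one_of_dvd (hx.coprime_dvd_left h1) h2)

/-- An abelian Hall subgroup normalizing a Sylow subgroup, when fusion is trivial. -/
theorem exists_abelian_hall_normalizing {q : ℕ} [Fact q.Prime] {S' : Finset ℕ}
    (hS' : ∀ r ∈ S', r.Prime) (hq : q ∉ S') {E : Subgroup X} (hab : IsAb E)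
    (hcard : Nat.card E = mS S' X)
    (hW : Subgroup.normalizer (E : Set X) ≤ Subgroup.centralizer (E : Set X))
    (Q : Sylow q X) (hQab : IsAb (Q : Subgroup X)) :
    ∃ E₁ : Subgroup X, IsAb E₁ ∧ Nat.card E₁ = mS S' X ∧
      E₁ ≤ Subgroup.normalizer ((Q : Subgroup X) : Set X) := by
  classical
  have hqp : q.Prime := Fact.out
  obtain ⟨K', hK', hcardK', hcomm, hcoprime⟩ := exists_hall_complement hS' hab hcard hW
  have hS1 : ∀ r ∈ ({q} : Finset ℕ), r.Prime := by simpa using hqp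
  have hQK' : (Q : Subgroup X) ≤ K' := by
    intro x hx
    apply hcoprime
    obtain ⟨n, hn⟩ := orderOf_of_mem_pgroup Q.isPGroup' hx
    rw [hn, hcard]
    exact Nat.Coprime.pow_left _ ((Nat.Prime.coprime_iff_not_dvd hqp).mpr
      (not_dvd_mS hS' hq hqp X))
  have hQc := card_eq_mS_of_le hS1 hQK' (card_sylow_eq_mS Q)
  have hfr := card_frattini hS1 hQK' hQab hQc
  set N₁ := Subgroup.normalizer ((Q : Subgroup X) : Set X) with hN₁
  have hKpos : 0 < Nat.card K' := Nat.card_pos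
  have hL : (mS S' X) * Nat.card (K' ⊓ N₁ : Subgroup X) = Nat.card N₁ := by
    have h1 : Nat.card K' * (mS S' X * Nat.card (K' ⊓ N₁ : Subgroup X)) =
        Nat.card K' * Nat.card N₁ := by
      rw [← hfr, ← mul_assoc, ← hcard, hcardK']
    exact Nat.eq_of_mul_eq_mul_left hKpos h1
  set L : Subgroup N₁ := K'.subgroupOf N₁ with hLdef
  haveI : L.Normal := Subgroup.normal_subgroupOf
  have hLcard : Nat.card L = Nat.card (K' ⊓ N₁ : Subgroup X) := by
    rw [hLdef, ← Subgroup.inf_subgroupOf_right, card_subgroupOf_of_le inf_le_right]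
  have hLindex : L.index = mS S' X := by
    have h1 : Nat.card L * L.index = Nat.card N₁ := Subgroup.card_mul_index L
    rw [hLcard, ← hL, mul_comm] at h1
    have hpos : 0 < Nat.card (K' ⊓ N₁ : Subgroup X) := Nat.card_pos
    exact Nat.eq_of_mul_eq_mul_right hpos (by rw [h1])
  have hcopK : (Nat.card K').Coprime (mS S' X) := by
    have h1 := coprime_index_of_card_eq_mS hS' E hcard
    have h2 : Nat.card K' = E.index := by
      have h3 : Nat.card E * E.index = Nat.card X := Subgroup.card_mul_index E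
      rw [← hcardK', mul_comm] at h3
      exact (Nat.eq_of_mul_eq_mul_right Nat.card_pos h3).symm ▸ rfl
    rw [h2, ← hcard]
    exact h1.symm
  have hcopL : (Nat.card L).Coprime L.index := by
    rw [hLindex, hLcard]
    exact hcopK.coprime_dvd_left (Subgroup.card_dvd_of_le inf_le_left)
  obtain ⟨E', hE'⟩ := Subgroup.exists_right_complement'_of_coprime hcopL
  have hE'card : Nat.card E' = mS S' X := by
    rw [← hLindex]
    exact hE'.symm.index_eq_card.symm ▸ rfl
  refine ⟨E'.map N₁.subtype, ?_, ?_, ?_⟩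
  · rintro _ ⟨a, ha, rfl⟩ _ ⟨b, hb, rfl⟩
    have h1 : a * b * a⁻¹ * b⁻¹ ∈ E' :=
      E'.mul_mem (E'.mul_mem (E'.mul_mem ha hb) (E'.inv_mem ha)) (E'.inv_mem hb)
    have h2 : a * b * a⁻¹ * b⁻¹ ∈ L := by
      rw [hLdef, Subgroup.mem_subgroupOf]
      exact hcomm (a : X) (b : X)
    have h3 : a * b * a⁻¹ * b⁻¹ = 1 := Subgroup.disjoint_def.mp hE'.disjoint h2 h1
    have h4 : a * b = b * a := by
      have h5 : a * b = (a * b * a⁻¹ * b⁻¹) * (b * a) := by group
      rw [h5, h3, one_mul]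
    show (a : X) * b = b * a
    exact congrArg Subtype.val h4
  · rw [← hE'card]
    exact (Nat.card_congr (Subgroup.equivMapOfInjective E' N₁.subtype
      Subtype.val_injective).toEquiv).symm
  · rintro _ ⟨x, -, rfl⟩
    exact x.2

/-- `|E ∩ C(Q)|` is the `S'`-part of `|C(Q)|` when `E` is Hall and normalizes `Q`. -/
theorem card_inf_centralizer {S' : Finset ℕ} (hS' : ∀ r ∈ S', r.Prime) {E Q : Subgroup X}
    (hcard : Nat.card E = mS S' X) (hEN : E ≤ Subgroup.normalizer (Q : Set X)) :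
    Nat.card (E ⊓ Subgroup.centralizer (Q : Set X) : Subgroup X) =
      mS S' (Subgroup.centralizer (Q : Set X)) := by
  classical
  set Cq := Subgroup.centralizer (Q : Set X) with hCq
  have hECq : E ≤ Subgroup.normalizer (Cq : Set X) := by
    apply Cfsg.Agent.Lib.Coprime.InvSylow.le_normalizer_of_forall_conj_mem
    intro a ha x hx
    rw [hCq, Subgroup.mem_centralizer_iff]
    intro h hh
    have h1 : a⁻¹ * h * a ∈ Q := by
      have := (Subgroup.mem_normalizer_iff.mp
        (Subgroup.inv_mem _ (hEN ha)) h).mp hh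
      simpa using this
    have h2 := Subgroup.mem_centralizer_iff.mp hx _ h1
    calc h * (a * x * a⁻¹) = a * ((a⁻¹ * h * a) * x) * a⁻¹ := by group
      _ = a * (x * (a⁻¹ * h * a)) * a⁻¹ := by rw [h2]
      _ = _ := by group
  have h := Cfsg.Agent.Lib.Basic.ProductCard.ncard_mul_mul_card_inf Cq E
  rw [← Subgroup.coe_mul_of_right_le_normalizer_left Cq E hECq, ← Nat.card_coe_set_eq] at h
  have h5 : Nat.card ((Cq ⊔ E : Subgroup X) : Set X) = Nat.card (Cq ⊔ E : Subgroup X) := rfl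
  rw [h5] at h
  rw [inf_comm Cq E] at h
  have hXne : Nat.card X ≠ 0 := Nat.card_pos.ne'
  apply Nat.dvd_antisymm
  · apply dvd_mS_of_dvd hS' (Subgroup.card_dvd_of_le inf_le_right)
    intro r hr hd
    have : r ∣ mS S' X := by
      rw [← hcard]
      exact hd.trans (Subgroup.card_dvd_of_le inf_le_left)
    exact mem_of_prime_dvd_mS hS' hr this
  · apply mS_dvd_of_forall hS' Nat.card_pos.ne'
    intro r hr
    have h1 : (Nat.card (Cq ⊔ E : Subgroup X) * Nat.card (E ⊓ Cq : Subgroup X)).factorization r =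
        (Nat.card Cq * Nat.card E).factorization r := by rw [h]
    rw [Nat.factorization_mul Nat.card_pos.ne' Nat.card_pos.ne',
      Nat.factorization_mul Nat.card_pos.ne' Nat.card_pos.ne', Finsupp.add_apply,
      Finsupp.add_apply] at h1
    have h2 : (Nat.card (Cq ⊔ E : Subgroup X)).factorization r ≤ (Nat.card E).factorization r := by
      rw [hcard, factorization_mS_of_mem hS' X hr]
      exact (Nat.factorization_le_iff_dvd Nat.card_pos.ne' hXne).mpr
        (Subgroup.card_subgroup_dvd_card _) r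
    omega

theorem num_ii_aux {p q t m n₀ n₁ R b k : ℚ} (hp : 2 ≤ p) (hpq : p ≤ q) (ht : 0 ≤ t) (hm : 0 ≤ m)
    (hk : k ≤ n₀ * R + n₁ * b) (hn : n₀ + n₁ = m) (hn0 : 0 ≤ n₀) (hn1 : 0 ≤ n₁) (hb : b ≤ t / q)
    (hR : R ≤ t / p + (t / q) * (1 - 1 / p)) (hpn : p * n₀ ≤ m) :
    k ≤ (1 / q + (1 / p ^ 2) * (1 - 1 / q)) * (t * m) := by
  have hp0 : 0 < p := by linarith
  have hq0 : 0 < q := by linarith
  have e0 : n₀ * R + n₁ * b ≤ n₀ * (t / p + (t / q) * (1 - 1 / p)) + n₁ * (t / q) :=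
    add_le_add (mul_le_mul_of_nonneg_left hR hn0) (mul_le_mul_of_nonneg_left hb hn1)
  have e1 : n₀ * (t / p + (t / q) * (1 - 1 / p)) + n₁ * (t / q) =
      m * (t / q) + n₀ * ((t / p) * (1 - 1 / q)) := by
    rw [← hn]
    field_simp
    ring
  have e2 : n₀ ≤ m / p := by
    rw [le_div_iff₀ hp0, mul_comm]
    exact hpn
  have e2' : (0 : ℚ) ≤ 1 - 1 / q := by
    rw [sub_nonneg, div_le_one hq0]
    linarith
  have e3 : 0 ≤ (t / p) * (1 - 1 / q) := mul_nonneg (div_nonneg ht hp0.le) e2'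
  have e4 := mul_le_mul_of_nonneg_right e2 e3
  have e5 : (m / p) * ((t / p) * (1 - 1 / q)) = (t * m) * ((1 / p ^ 2) * (1 - 1 / q)) := by
    field_simp
  have e8 : (t * m) * (1 / q + (1 / p ^ 2) * (1 - 1 / q)) =
      m * (t / q) + (t * m) * ((1 / p ^ 2) * (1 - 1 / q)) := by
    field_simp
  have e9 : (1 / q + (1 / p ^ 2) * (1 - 1 / q)) * (t * m) =
      (t * m) * (1 / q + (1 / p ^ 2) * (1 - 1 / q)) := by
    ring
  rw [e9]
  linarith

theorem num_ii_cp {p q : ℚ} (hp : 2 ≤ p) (hpq : p ≤ q) :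
    1 / q + (1 / p ^ 2) * (1 - 1 / q) ≤ 1 / p + (1 - 1 / p) / p ^ 2 := by
  have hp0 : 0 < p := by linarith
  have h1 : 1 / q ≤ 1 / p := one_div_le_one_div_of_le hp0 hpq
  have h2 : 1 / p ^ 2 ≤ 1 := by
    rw [div_le_one (by positivity)]
    nlinarith
  have h3 : (1 / q + (1 / p ^ 2) * (1 - 1 / q)) = 1 / p ^ 2 + (1 / q) * (1 - 1 / p ^ 2) := by ring
  have h4 : 1 / p + (1 - 1 / p) / p ^ 2 = 1 / p ^ 2 + (1 / p) * (1 - 1 / p ^ 2) := by ring
  rw [h3, h4]
  have := mul_le_mul_of_nonneg_right h1 (sub_nonneg.mpr h2)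
  linarith

/-- A divisor of `mS S' X` which is not `1` is at least `p`. -/
theorem le_of_dvd_mS {S' : Finset ℕ} (hS' : ∀ r ∈ S', r.Prime) {p : ℕ} (hpS : ∀ r ∈ S', p ≤ r)
    {Y : Type u} [Group Y] {d : ℕ} (hd : d ∣ mS S' Y) (h1 : d ≠ 1) : p ≤ d := by
  obtain ⟨r, hr, hrd⟩ := Nat.exists_prime_and_dvd h1
  have hrS := mem_of_prime_dvd_mS hS' hr (hrd.trans hd)
  have hdpos : 0 < d := Nat.pos_of_dvd_of_pos hd (mS_pos S' hS' Y)
  exact (hpS r hrS).trans (Nat.le_of_dvd hdpos hrd)

/-- Case `N(E) ≤ C(E)` with `E` normalizing the Sylow subgroup `Q`. -/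
theorem case_ii_aux {S' : Finset ℕ} (hS' : ∀ r ∈ S', r.Prime) {p : ℕ} (hp : 2 ≤ p)
    (hpS : ∀ r ∈ S', p ≤ r) {q : ℕ} [Fact q.Prime] (hq : q ∉ S') (hpq : p ≤ q)
    {E : Subgroup X} (habE : IsAb E) (hcardE : Nat.card E = mS S' X)
    (hW : Subgroup.normalizer (E : Set X) ≤ Subgroup.centralizer (E : Set X))
    (Q : Sylow q X) (hQab : IsAb (Q : Subgroup X))
    (hEN : E ≤ Subgroup.normalizer ((Q : Subgroup X) : Set X))
    (hnc : ¬ ∀ a ∈ E, ∀ b ∈ (Q : Subgroup X), a * b = b * a) :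
    (kS (insert q S') X : ℚ) ≤ (1 / q + (1 / p ^ 2) * (1 - 1 / q)) * mS (insert q S') X := by
  classical
  have hqp : q.Prime := Fact.out
  have hS1 : ∀ r ∈ ({q} : Finset ℕ), r.Prime := by simpa using hqp
  have hQcard := card_sylow_eq_mS Q
  set m' := mS S' X with hm'
  set t := Nat.card (Q : Subgroup X) with ht
  push Not at hnc
  obtain ⟨v, hv, b₀, hb₀, hvb⟩ := hnc
  have hvQ : ∀ x ∈ (Q : Subgroup X), v * x * v⁻¹ ∈ (Q : Subgroup X) := fun x hx =>
    (Subgroup.mem_normalizer_iff.mp (hEN hv) x).mp hx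
  obtain ⟨Yv, -, hYvcov, -, hYvF, hYv2⟩ := exists_reps_subgroup (Q : Subgroup X) v hvQ p (by
    intro d hd h1
    have h2 : orderOf v ∣ m' := by
      rw [← hcardE]
      exact Subgroup.orderOf_dvd_natCard E hv
    exact le_of_dvd_mS hS' hpS (hd.trans h2) h1)
  set D₀ : Subgroup X := (Q : Subgroup X) ⊓ Subgroup.centralizer ({v} : Set X) with hD₀
  have hD₀card : q * Nat.card D₀ ≤ t := by
    apply mul_card_le_of_lt hqp Q.isPGroup' (K := D₀) inf_le_left
    intro h
    have h2 : b₀ ∈ D₀ := by rw [h]; exact hb₀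
    exact hvb (Subgroup.mem_centralizer_singleton_iff.mp h2.2).symm
  have hp1 : (1 : ℚ) ≤ p := by exact_mod_cast (by omega : 1 ≤ p)
  have hp0 : (0 : ℚ) < p := by linarith
  have hq0 : (0 : ℚ) < q := by exact_mod_cast hqp.pos
  have hR0 := card_reps_le (a := p) (n := t) (f := Nat.card D₀) (by omega) hYvF hYv2
  have hR : (Yv.card : ℚ) ≤ (t : ℚ) / p + ((t : ℚ) / q) * (1 - 1 / p) := by
    refine hR0.trans ?_
    apply reps_num_le hp1 hq0
    exact_mod_cast hD₀card
  have hsum := kS_le_sum (insert q S') S' {q} (fs E) (dec_q' q S') (by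
      intro u hu
      obtain ⟨g, hg⟩ := exists_conj_mem_of_hall hS' habE hcardE hu
      exact ⟨_, mem_fs.mpr hg, isConj_iff.mpr ⟨g, rfl⟩⟩)
  let P : X → Prop := fun y => ∀ b ∈ (Q : Subgroup X), b * y = y * b
  have hterm1 : ∀ y ∈ fs E, P y →
      (kS {q} (Subgroup.centralizer ({y} : Set X)) : ℚ) ≤ Yv.card := by
    intro y hy hPy
    have hyE := mem_fs.mp hy
    have hQC : (Q : Subgroup X) ≤ Subgroup.centralizer ({y} : Set X) := by
      intro x hx
      exact Subgroup.mem_centralizer_singleton_iff.mpr (hPy x hx)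
    have hvC : v ∈ Subgroup.centralizer ({y} : Set X) :=
      Subgroup.mem_centralizer_singleton_iff.mpr (habE v hv y hyE)
    have := kS_subgroup_le (Subgroup.centralizer ({y} : Set X)) {q} Yv (by
      intro x hx hxS
      obtain ⟨c, hc, hcx⟩ := exists_conj_mem_sub hS1 hQC hQab
        (card_eq_mS_of_le hS1 hQC hQcard) hx hxS
      obtain ⟨i, hi⟩ := hYvcov _ hcx
      refine ⟨_, hi, v ^ i * c, Subgroup.mul_mem _ (Subgroup.pow_mem _ hvC i) hc, ?_⟩
      group)
    exact_mod_cast this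
  have hCqcard := card_inf_centralizer hS' hcardE hEN
  have hterm2 : ∀ y ∈ fs E, ¬ P y →
      (kS {q} (Subgroup.centralizer ({y} : Set X)) : ℚ) ≤ (t : ℚ) / q := by
    intro y hy hPy
    have hyE := mem_fs.mp hy
    have h2 := kS_le_mS {q} (Subgroup.centralizer ({y} : Set X)) hS1
    have hne : mS {q} (Subgroup.centralizer ({y} : Set X)) ≠ t := by
      intro heq
      apply hPy
      obtain ⟨P₂⟩ : Nonempty (Sylow q (Subgroup.centralizer ({y} : Set X))) := inferInstance
      set Q₃ : Subgroup X := (P₂ : Subgroup (Subgroup.centralizer ({y} : Set X))).map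
        (Subgroup.centralizer ({y} : Set X)).subtype with hQ₃
      have hQ₃card : Nat.card Q₃ = mS {q} X := by
        rw [← hQcard, ← heq, ← card_sylow_eq_mS P₂]
        exact (Nat.card_congr (Subgroup.equivMapOfInjective
          (P₂ : Subgroup (Subgroup.centralizer ({y} : Set X)))
          (Subgroup.centralizer ({y} : Set X)).subtype Subtype.val_injective).toEquiv).symm
      have hQ₃C : Q₃ ≤ Subgroup.centralizer ({y} : Set X) := by
        rintro _ ⟨x, -, rfl⟩
        exact x.2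
      obtain ⟨g, hg⟩ := exists_conj_of_hall hS1 hQab hQcard hQ₃card
      -- `u = g⁻¹ y g` centralizes `Q`
      set u := g⁻¹ * y * g with hu
      have huC : u ∈ Subgroup.centralizer ((Q : Subgroup X) : Set X) := by
        rw [Subgroup.mem_centralizer_iff]
        intro b hb
        have h3 : g * b * g⁻¹ ∈ Q₃ := (hg _).mpr (by
          have h0 : g⁻¹ * (g * b * g⁻¹) * g = b := by group
          rw [h0]
          exact hb)
        have h4 := Subgroup.mem_centralizer_singleton_iff.mp (hQ₃C h3)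
        have h5 : b * u = g⁻¹ * ((g * b * g⁻¹) * y) * g := by
          rw [hu]
          group
        have h6 : u * b = g⁻¹ * (y * (g * b * g⁻¹)) * g := by
          rw [hu]
          group
        rw [h5, h6, h4]
      have huS : IsSElt S' u := by
        have h7 : IsSElt S' y := by
          intro r hr hd
          have h8 : orderOf y ∣ m' := by
            rw [← hcardE]
            exact Subgroup.orderOf_dvd_natCard E hyE
          exact mem_of_prime_dvd_mS hS' hr (hd.trans h8)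
        have := isSElt_conj g⁻¹ h7
        simpa [hu] using this
      obtain ⟨c, hc, hcu⟩ := exists_conj_mem_sub hS' (inf_le_right :
        (E ⊓ Subgroup.centralizer ((Q : Subgroup X) : Set X) : Subgroup X) ≤ _)
        (fun a ha b hb => habE a ha.1 b hb.1) hCqcard huC huS
      have h9 : (c * g⁻¹) * y * (c * g⁻¹)⁻¹ = c * u * c⁻¹ := by
        rw [hu]
        group
      have h10 := no_fusion hS' habE hcardE hW hyE (g := c * g⁻¹) (by rw [h9]; exact hcu.1)
      rw [h9] at h10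
      have h11 : y ∈ Subgroup.centralizer ((Q : Subgroup X) : Set X) := by
        rw [← h10]
        exact hcu.2
      exact fun b hb => Subgroup.mem_centralizer_iff.mp h11 b hb
    have hdvd : mS {q} (Subgroup.centralizer ({y} : Set X)) ∣ mS {q} X := mS_sub_dvd _ _
    have h3 := mul_le_mS_of_dvd_of_ne hS1 (p := q) (by simp) hdvd (by rwa [← hQcard])
    rw [le_div_iff₀ hq0, mul_comm]
    have h7 : q * kS {q} (Subgroup.centralizer ({y} : Set X)) ≤ t := by
      rw [hQcard]
      exact (Nat.mul_le_mul_left q h2).trans h3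
    exact_mod_cast h7
  have hs2 := sum_two_le (Y := fs E) P
    (fun y => (kS {q} (Subgroup.centralizer ({y} : Set X)) : ℚ)) (Yv.card : ℚ) ((t : ℚ) / q)
    hterm1 hterm2
  set n₀ := ((fs E).filter P).card with hn₀
  set n₁ := ((fs E).filter (fun x => ¬ P x)).card with hn₁
  have hn01 : n₀ + n₁ = m' := by
    rw [hn₀, hn₁, Finset.card_filter_add_card_filter_not, card_fs, hcardE]
  have hD₁ : ((fs E).filter P) = fs (E ⊓ Subgroup.centralizer ((Q : Subgroup X) : Set X)) := by
    ext x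
    simp only [Finset.mem_filter, mem_fs, Subgroup.mem_inf, Subgroup.mem_centralizer_iff, P]
    exact Iff.rfl
  have hn0le : p * n₀ ≤ m' := by
    rw [hn₀, hD₁, card_fs]
    apply mul_le_mS_of_dvd_of_ne hS' hpS
    · have := Subgroup.card_dvd_of_le
        (inf_le_left : (E ⊓ Subgroup.centralizer ((Q : Subgroup X) : Set X) : Subgroup X) ≤ E)
      rwa [hcardE] at this
    · intro h
      have h2 : (E ⊓ Subgroup.centralizer ((Q : Subgroup X) : Set X) : Subgroup X) = E :=
        Subgroup.eq_of_le_of_card_ge inf_le_left (by rw [h, hcardE])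
      have h3 : v ∈ (E ⊓ Subgroup.centralizer ((Q : Subgroup X) : Set X) : Subgroup X) := by
        rw [h2]; exact hv
      exact hvb (Subgroup.mem_centralizer_iff.mp h3.2 b₀ hb₀).symm
  have hk : (kS (insert q S') X : ℚ) ≤ (n₀ : ℚ) * Yv.card + (n₁ : ℚ) * ((t : ℚ) / q) := by
    refine le_trans ?_ hs2
    exact_mod_cast hsum
  have hm : (n₀ : ℚ) + n₁ = (m' : ℚ) := by exact_mod_cast hn01
  have hfinal := num_ii_aux (p := p) (q := q) (t := (t : ℚ)) (m := m')
    (n₀ := n₀) (n₁ := n₁) (R := Yv.card) (b := (t : ℚ) / q)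
    (by exact_mod_cast hp) (by exact_mod_cast hpq) (by positivity) (by positivity) hk hm
    (by positivity) (by positivity) le_rfl hR (by exact_mod_cast hn0le)
  rw [mS_insert q S' hq, ← hm']
  have h1 : q ^ (Nat.card X).factorization q = t := by
    rw [ht, Sylow.card_eq_multiplicity]
  rw [h1]
  push_cast
  exact hfinal

/-- Case `N(E) ≤ C(E)` with `E` normalizing the Sylow subgroup `Q`. -/
theorem case_ii {S' : Finset ℕ} (hS' : ∀ r ∈ S', r.Prime) {p : ℕ} (hp : 2 ≤ p)
    (hpS : ∀ r ∈ S', p ≤ r) {q : ℕ} [Fact q.Prime] (hq : q ∉ S') (hpq : p ≤ q)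
    {E : Subgroup X} (habE : IsAb E) (hcardE : Nat.card E = mS S' X)
    (hW : Subgroup.normalizer (E : Set X) ≤ Subgroup.centralizer (E : Set X))
    (Q : Sylow q X) (hQab : IsAb (Q : Subgroup X))
    (hEN : E ≤ Subgroup.normalizer ((Q : Subgroup X) : Set X))
    (hnc : ¬ ∀ a ∈ E, ∀ b ∈ (Q : Subgroup X), a * b = b * a) :
    (kS (insert q S') X : ℚ) ≤ cp p * mS (insert q S') X := by
  refine (case_ii_aux hS' hp hpS hq hpq habE hcardE hW Q hQab hEN hnc).trans ?_
  apply mul_le_mul_of_nonneg_right _ (by positivity)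
  rw [cp_eq hp]
  exact num_ii_cp (by exact_mod_cast hp) (by exact_mod_cast hpq)

end caseii

section caseiii

variable {X : Type u} [Group X] [Finite X]

theorem num_iii {p q t m z f₁ n₁ R₃ R₂ S₁ S₂ k c2 : ℚ} (hp : 2 ≤ p) (hq : 2 ≤ q) (ht : 0 ≤ t)
    (hm : 0 ≤ m) (hc2 : 0 ≤ c2)
    (hk : k ≤ S₁ + S₂) (hS₁ : S₁ ≤ f₁ * R₃ + n₁ * m) (hS₂ : S₂ ≤ R₂ * (c2 * m))
    (hn : 2 * n₁ + f₁ ≤ z) (hf₁ : 0 ≤ f₁) (hn₁ : 0 ≤ n₁)
    (hR₃ : R₃ ≤ m / 2 + (m / p) * (1 - 1 / 2)) (hR₂ : R₂ ≤ t / 2 + (t / q) * (1 - 1 / 2))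
    (hz : q * z ≤ t)
    (hnum : (p + 1) / (2 * p) / q + (q + 1) / (2 * q) * c2 ≤ 1 / p + (1 - 1 / p) / p ^ 2) :
    k ≤ (1 / p + (1 - 1 / p) / p ^ 2) * (t * m) := by
  have hp0 : 0 < p := by linarith
  have hq0 : 0 < q := by linarith
  set κ : ℚ := (p + 1) / (2 * p) with hκ
  have hκ1 : 1 / 2 ≤ κ := by
    rw [hκ, div_le_div_iff₀ (by norm_num) (by positivity)]
    linarith
  have hR₃' : R₃ ≤ m * κ := by
    refine hR₃.trans (le_of_eq ?_)
    rw [hκ]
    field_simp
    ring
  have hR₂' : R₂ ≤ t * ((q + 1) / (2 * q)) := by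
    refine hR₂.trans (le_of_eq ?_)
    field_simp
    ring
  have hmκ : 0 ≤ m * κ := mul_nonneg hm (by linarith)
  have h1 : S₁ ≤ z * (m * κ) := by
    have h2 : f₁ * R₃ ≤ f₁ * (m * κ) := mul_le_mul_of_nonneg_left hR₃' hf₁
    have h3 : n₁ * m ≤ 2 * n₁ * (m * κ) := by
      have : m ≤ 2 * (m * κ) := by nlinarith
      nlinarith
    have h4 : (2 * n₁ + f₁) * (m * κ) ≤ z * (m * κ) := mul_le_mul_of_nonneg_right hn hmκ
    nlinarith
  have hz' : z ≤ t / q := by
    rw [le_div_iff₀ hq0, mul_comm]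
    exact hz
  have h5 : z * (m * κ) ≤ (t / q) * (m * κ) := mul_le_mul_of_nonneg_right hz' hmκ
  have h6 : S₂ ≤ t * ((q + 1) / (2 * q)) * (c2 * m) :=
    hS₂.trans (mul_le_mul_of_nonneg_right hR₂' (mul_nonneg hc2 hm))
  have h7 : (t / q) * (m * κ) + t * ((q + 1) / (2 * q)) * (c2 * m) =
      (t * m) * (κ / q + (q + 1) / (2 * q) * c2) := by
    field_simp
  have h8 := mul_le_mul_of_nonneg_left hnum (mul_nonneg ht hm)
  have h9 : (1 / p + (1 - 1 / p) / p ^ 2) * (t * m) = (t * m) * (1 / p + (1 - 1 / p) / p ^ 2) := by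
    ring
  rw [h9]
  linarith

/-- Case where both `N(Q)/C(Q)` and `N(H')/C(H')` are nontrivial. -/
theorem case_iii {S' : Finset ℕ} (hS' : ∀ r ∈ S', r.Prime) {p : ℕ} (hp : 2 ≤ p)
    (hpS : ∀ r ∈ S', p ≤ r) {q : ℕ} [Fact q.Prime] (hq : q ∉ S')
    {H' : Subgroup X} (habH : IsAb H') (hcardH : Nat.card H' = mS S' X)
    (hQab : ∀ Q : Sylow q X, IsAb (Q : Subgroup X))
    (hWQ : ∀ Q : Sylow q X, ¬ Subgroup.normalizer ((Q : Subgroup X) : Set X) ≤
      Subgroup.centralizer ((Q : Subgroup X) : Set X))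
    (hW' : ¬ Subgroup.normalizer (H' : Set X) ≤ Subgroup.centralizer (H' : Set X))
    (hnc : ∀ Q : Sylow q X, ¬ ∀ a ∈ H', ∀ b ∈ (Q : Subgroup X), a * b = b * a)
    {c2 : ℚ} (hc2 : 0 ≤ c2)
    (hterm : ∀ Z : Subgroup X, (¬ ∃ E : Subgroup X, E ≤ Z ∧ IsAb E ∧ Nat.card E = mS S' X) →
      (kS S' Z : ℚ) ≤ c2 * mS S' X)
    (hnum : ((p : ℚ) + 1) / (2 * p) / q + ((q : ℚ) + 1) / (2 * q) * c2 ≤ cp p) :
    (kS (insert q S') X : ℚ) ≤ cp p * mS (insert q S') X := by
  classical
  have hqp : q.Prime := Fact.out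
  have hS1 : ∀ r ∈ ({q} : Finset ℕ), r.Prime := by simpa using hqp
  set m' := mS S' X with hm'
  have hm'pos : 0 < m' := mS_pos S' hS' X
  -- `Q₀`
  set Cs := Subgroup.centralizer (H' : Set X) with hCs
  obtain ⟨P₀⟩ : Nonempty (Sylow q Cs) := inferInstance
  set Q₀ : Subgroup X := (P₀ : Subgroup Cs).map Cs.subtype with hQ₀
  have hQ₀Cs : Q₀ ≤ Cs := by
    rintro _ ⟨x, -, rfl⟩
    exact x.2
  have hQ₀p : IsPGroup q Q₀ := P₀.isPGroup'.map _
  have hQ₀card : Nat.card Q₀ = mS {q} Cs := by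
    rw [← card_sylow_eq_mS P₀]
    exact (Nat.card_congr (Subgroup.equivMapOfInjective (P₀ : Subgroup Cs) Cs.subtype
      Subtype.val_injective).toEquiv).symm
  obtain ⟨Q, hQ₀Q⟩ := hQ₀p.exists_le_sylow
  set t := Nat.card (Q : Subgroup X) with ht
  have hQ₀t : q * Nat.card Q₀ ≤ t := by
    apply mul_card_le_of_lt hqp Q.isPGroup' hQ₀Q
    intro h
    apply hnc Q
    intro a ha b hb
    have hbC : b ∈ Cs := hQ₀Cs (h ▸ hb)
    exact Subgroup.mem_centralizer_iff.mp hbC a ha
  have hQ₀ab : IsAb Q₀ := fun a ha b hb => hQab Q a (hQ₀Q ha) b (hQ₀Q hb)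
  -- `v`
  have h1 := hWQ Q
  obtain ⟨v, hvN, hvC⟩ := Set.not_subset.mp h1
  have hvQ : ∀ x ∈ (Q : Subgroup X), v * x * v⁻¹ ∈ (Q : Subgroup X) := fun x hx =>
    (Subgroup.mem_normalizer_iff.mp hvN x).mp hx
  have h2le : ∀ {w : X} (d : ℕ), d ∣ orderOf w → d ≠ 1 → 2 ≤ d := by
    intro w d hd h1
    have hd0 : 0 < d := Nat.pos_of_dvd_of_pos hd (orderOf_pos w)
    omega
  obtain ⟨Y₂, hY₂Q, hY₂cov, -, hY₂F, hY₂2⟩ := exists_reps_subgroup (Q : Subgroup X) v hvQ 2
    (fun d => h2le d)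
  set D₂ : Subgroup X := (Q : Subgroup X) ⊓ Subgroup.centralizer ({v} : Set X) with hD₂
  have hD₂card : q * Nat.card D₂ ≤ t := by
    apply mul_card_le_of_lt hqp Q.isPGroup' (K := D₂) inf_le_left
    intro h
    apply hvC
    rw [SetLike.mem_coe, Subgroup.mem_centralizer_iff]
    intro b hb
    have h2 : b ∈ D₂ := by rw [h]; exact hb
    exact Subgroup.mem_centralizer_singleton_iff.mp h2.2
  have hq0 : (0 : ℚ) < q := by exact_mod_cast hqp.pos
  have hp0 : (0 : ℚ) < p := by exact_mod_cast (by omega : 0 < p)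
  have hR₂ : (Y₂.card : ℚ) ≤ (t : ℚ) / 2 + ((t : ℚ) / q) * (1 - 1 / 2) := by
    have h3 := card_reps_le (a := 2) (n := t) (f := Nat.card D₂) (by norm_num) hY₂F hY₂2
    refine h3.trans ?_
    have h4 := reps_num_le (n := (t : ℚ)) (f := (Nat.card D₂ : ℚ)) (a := 2) (b := q)
      (by norm_num) hq0 (by exact_mod_cast hD₂card)
    exact_mod_cast h4
  -- `g` and `v'`
  obtain ⟨g, hgN, hgC⟩ := Set.not_subset.mp hW'
  have hgCs : ∀ x ∈ Cs, g * x * g⁻¹ ∈ Cs := by
    intro x hx
    rw [hCs, Subgroup.mem_centralizer_iff]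
    intro a ha
    have h3 : g⁻¹ * a * g ∈ H' := by
      have := (Subgroup.mem_normalizer_iff.mp (Subgroup.inv_mem _ hgN) a).mp ha
      simpa using this
    have h4 := Subgroup.mem_centralizer_iff.mp hx _ h3
    calc a * (g * x * g⁻¹) = g * ((g⁻¹ * a * g) * x) * g⁻¹ := by group
      _ = g * (x * (g⁻¹ * a * g)) * g⁻¹ := by rw [h4]
      _ = _ := by group
  set Q₀' : Subgroup X := Q₀.map (MulAut.conj g).toMonoidHom with hQ₀'
  have hconj : ∀ a, (MulAut.conj g).toMonoidHom a = g * a * g⁻¹ := fun a => rfl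
  have hQ₀'Cs : Q₀' ≤ Cs := by
    rintro _ ⟨x, hx, rfl⟩
    rw [hconj]
    exact hgCs x (hQ₀Cs hx)
  have hQ₀'card : Nat.card Q₀' = mS {q} Cs := by
    rw [← hQ₀card]
    exact (Nat.card_congr (Subgroup.equivMapOfInjective Q₀ _
      (MulAut.conj g).injective).toEquiv).symm
  obtain ⟨c₁, hc₁, hiff⟩ := exists_conj_sub hS1 hQ₀Cs hQ₀'Cs hQ₀ab hQ₀card hQ₀'card
  set v' := c₁⁻¹ * g with hv'
  have hv'eq : ∀ x, v' * x * v'⁻¹ = c₁⁻¹ * (g * x * g⁻¹) * c₁ := by
    intro x
    rw [hv']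
    group
  have hv'Q₀ : ∀ x ∈ Q₀, v' * x * v'⁻¹ ∈ Q₀ := by
    intro x hx
    rw [hv'eq]
    have h3 : g * x * g⁻¹ ∈ Q₀' := ⟨x, hx, rfl⟩
    exact (hiff _ (hQ₀'Cs h3)).mp h3
  have hv'H : ∀ x ∈ H', v' * x * v'⁻¹ = g * x * g⁻¹ := by
    intro x hx
    rw [hv'eq]
    have h3 : g * x * g⁻¹ ∈ H' := (Subgroup.mem_normalizer_iff.mp hgN x).mp hx
    have h4 := Subgroup.mem_centralizer_iff.mp hc₁ _ h3
    calc c₁⁻¹ * (g * x * g⁻¹) * c₁ = c₁⁻¹ * ((g * x * g⁻¹) * c₁) := by group
      _ = c₁⁻¹ * (c₁ * (g * x * g⁻¹)) := by rw [h4]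
      _ = _ := by group
  have hv'H' : ∀ x ∈ H', v' * x * v'⁻¹ ∈ H' := by
    intro x hx
    rw [hv'H x hx]
    exact (Subgroup.mem_normalizer_iff.mp hgN x).mp hx
  -- representatives of `v'` on `H'` and on `Q₀`
  obtain ⟨Y₃, -, hY₃cov, -, hY₃F, hY₃2⟩ := exists_reps_subgroup H' v' hv'H' 2 (fun d => h2le d)
  obtain ⟨Y₁, hY₁Q, hY₁cov, -, hY₁F, hY₁2⟩ := exists_reps_subgroup Q₀ v' hv'Q₀ 2 (fun d => h2le d)
  set D₃ : Subgroup X := H' ⊓ Subgroup.centralizer ({v'} : Set X) with hD₃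
  have hD₃card : p * Nat.card D₃ ≤ m' := by
    apply mul_le_mS_of_dvd_of_ne hS' hpS
    · have := Subgroup.card_dvd_of_le (inf_le_left : D₃ ≤ H')
      rwa [hcardH] at this
    · intro h
      have h2 : D₃ = H' := Subgroup.eq_of_le_of_card_ge inf_le_left (by rw [h, hcardH])
      apply hgC
      rw [SetLike.mem_coe, Subgroup.mem_centralizer_iff]
      intro a ha
      have h3 : a ∈ D₃ := by rw [h2]; exact ha
      have h4 : v' * a = a * v' := (Subgroup.mem_centralizer_singleton_iff.mp h3.2).symm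
      have h5 : g * a * g⁻¹ = a := by
        rw [← hv'H a ha, h4]
        group
      calc a * g = (g * a * g⁻¹) * g := by rw [h5]
        _ = g * a := by group
  have hR₃ : (Y₃.card : ℚ) ≤ (m' : ℚ) / 2 + ((m' : ℚ) / p) * (1 - 1 / 2) := by
    have h3 := card_reps_le (a := 2) (n := Nat.card H') (f := Nat.card D₃) (by norm_num) hY₃F hY₃2
    rw [hcardH] at h3
    refine h3.trans ?_
    have h4 := reps_num_le (n := (m' : ℚ)) (f := (Nat.card D₃ : ℚ)) (a := 2) (b := p)
      (by norm_num) hp0 (by exact_mod_cast hD₃card)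
    exact_mod_cast h4
  -- the covering set
  let Y₂' : Finset X := Y₂.filter (fun y => ¬ ∃ g : X, g * y * g⁻¹ ∈ Q₀)
  have hsum := kS_le_sum (insert q S') {q} S' (Y₁ ∪ Y₂') (dec_q q S') (by
    intro u hu
    obtain ⟨g₂, hg₂⟩ := exists_conj_mem_sylow Q hu
    obtain ⟨i, hi⟩ := hY₂cov _ hg₂
    set y₂ := v ^ i * (g₂ * u * g₂⁻¹) * (v ^ i)⁻¹ with hy₂
    have huy : IsConj u y₂ := isConj_iff.mpr ⟨v ^ i * g₂, by rw [hy₂]; group⟩
    by_cases hex : ∃ g : X, g * y₂ * g⁻¹ ∈ Q₀
    · obtain ⟨g₃, hg₃⟩ := hex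
      obtain ⟨j, hj⟩ := hY₁cov _ hg₃
      refine ⟨_, Finset.mem_union_left _ hj, huy.trans (isConj_iff.mpr ⟨v' ^ j * g₃, by group⟩)⟩
    · exact ⟨y₂, Finset.mem_union_right _ (Finset.mem_filter.mpr ⟨hi, hex⟩), huy⟩)
  -- terms on `Y₁`
  let f : X → ℚ := fun y => (kS S' (Subgroup.centralizer ({y} : Set X)) : ℚ)
  have hf0 : ∀ y, 0 ≤ f y := fun y => by positivity
  have hterm1 : ∀ y ∈ Y₁, v' * y = y * v' → f y ≤ Y₃.card := by
    intro y hy hcomm
    have hyQ₀ := hY₁Q y hy
    have hH'C : H' ≤ Subgroup.centralizer ({y} : Set X) := by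
      intro x hx
      apply Subgroup.mem_centralizer_singleton_iff.mpr
      exact Subgroup.mem_centralizer_iff.mp (hQ₀Cs hyQ₀) x hx
    have hv'C : v' ∈ Subgroup.centralizer ({y} : Set X) :=
      Subgroup.mem_centralizer_singleton_iff.mpr hcomm
    have := kS_subgroup_le (Subgroup.centralizer ({y} : Set X)) S' Y₃ (by
      intro x hx hxS
      obtain ⟨c, hc, hcx⟩ := exists_conj_mem_sub hS' hH'C habH
        (card_eq_mS_of_le hS' hH'C hcardH) hx hxS
      obtain ⟨i, hi⟩ := hY₃cov _ hcx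
      refine ⟨_, hi, v' ^ i * c, Subgroup.mul_mem _ (Subgroup.pow_mem _ hv'C i) hc, ?_⟩
      group)
    show (kS S' (Subgroup.centralizer ({y} : Set X)) : ℚ) ≤ Y₃.card
    exact_mod_cast this
  have hterm2 : ∀ y ∈ Y₁, ¬ v' * y = y * v' → f y ≤ m' := by
    intro y _ _
    have h3 := kS_le_mS S' (Subgroup.centralizer ({y} : Set X)) hS'
    have h4 := mS_le_of_sub S' hS' (Subgroup.centralizer ({y} : Set X))
    show (kS S' (Subgroup.centralizer ({y} : Set X)) : ℚ) ≤ m'
    exact_mod_cast h3.trans h4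
  have hs1 := sum_two_le (Y := Y₁) (fun y => v' * y = y * v') f (Y₃.card : ℚ) (m' : ℚ)
    hterm1 hterm2
  -- terms on `Y₂'`
  have hterm3 : ∀ y ∈ Y₂', f y ≤ c2 * m' := by
    intro y hy
    have hnot := (Finset.mem_filter.mp hy).2
    apply hterm
    rintro ⟨E, hEC, hEab, hEcard⟩
    apply hnot
    obtain ⟨g₁, hg₁⟩ := exists_conj_of_hall hS' habH hcardH hEcard
    -- `u = g₁⁻¹ y g₁` centralizes `H'`
    set u := g₁⁻¹ * y * g₁ with hu
    have huC : u ∈ Cs := by
      rw [hCs, Subgroup.mem_centralizer_iff]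
      intro a ha
      have h3 : g₁ * a * g₁⁻¹ ∈ E := (hg₁ _).mpr (by
        have h0 : g₁⁻¹ * (g₁ * a * g₁⁻¹) * g₁ = a := by group
        rw [h0]
        exact ha)
      have h4 := Subgroup.mem_centralizer_singleton_iff.mp (hEC h3)
      have h5 : a * u = g₁⁻¹ * ((g₁ * a * g₁⁻¹) * y) * g₁ := by
        rw [hu]
        group
      have h6 : u * a = g₁⁻¹ * (y * (g₁ * a * g₁⁻¹)) * g₁ := by
        rw [hu]
        group
      rw [h5, h6, h4]
    have hyQ : y ∈ (Q : Subgroup X) := hY₂Q y (Finset.mem_filter.mp hy).1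
    obtain ⟨n, hn⟩ := orderOf_of_mem_pgroup Q.isPGroup' hyQ
    have hus : IsSElt {q} (⟨u, huC⟩ : Cs) := by
      apply isSElt_coe.mpr
      have h7 : IsSElt {q} y := by
        intro r hr hd
        rw [hn] at hd
        have := (Nat.prime_dvd_prime_iff_eq hr hqp).mp (hr.dvd_of_dvd_pow hd)
        simp [this]
      have := isSElt_conj g₁⁻¹ h7
      simpa [hu] using this
    obtain ⟨c, hc⟩ := exists_conj_mem_sylow P₀ hus
    refine ⟨(c : X) * g₁⁻¹, ?_⟩
    have h8 : (c : X) * g₁⁻¹ * y * ((c : X) * g₁⁻¹)⁻¹ = (c : X) * u * (c : X)⁻¹ := by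
      rw [hu]
      group
    rw [h8]
    exact ⟨_, hc, rfl⟩
  -- assembling
  have hs3 : ∑ y ∈ Y₂', f y ≤ (Y₂.card : ℚ) * (c2 * m') := by
    calc ∑ y ∈ Y₂', f y ≤ ∑ _y ∈ Y₂', c2 * m' := Finset.sum_le_sum hterm3
      _ = (Y₂'.card : ℚ) * (c2 * m') := by rw [Finset.sum_const, nsmul_eq_mul]
      _ ≤ _ := by
        apply mul_le_mul_of_nonneg_right _ (mul_nonneg hc2 (by positivity))
        exact_mod_cast Finset.card_le_card (Finset.filter_subset _ _)
  have hsum2 : ∑ y ∈ Y₁ ∪ Y₂', f y ≤ ∑ y ∈ Y₁, f y + ∑ y ∈ Y₂', f y := by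
    rw [← Finset.sum_union_inter]
    have : 0 ≤ ∑ y ∈ Y₁ ∩ Y₂', f y := Finset.sum_nonneg fun y _ => hf0 y
    linarith
  have hk : (kS (insert q S') X : ℚ) ≤ ∑ y ∈ Y₁, f y + ∑ y ∈ Y₂', f y := by
    refine le_trans ?_ hsum2
    have h : (kS (insert q S') X : ℚ) ≤
        ∑ y ∈ Y₁ ∪ Y₂', (kS S' (Subgroup.centralizer ({y} : Set X)) : ℚ) := by
      exact_mod_cast hsum
    exact h
  have hfinal := num_iii (p := p) (q := q) (t := (t : ℚ)) (m := m') (c2 := c2)
    (z := (Nat.card Q₀ : ℚ))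
    (f₁ := (Nat.card (Q₀ ⊓ Subgroup.centralizer ({v'} : Set X) : Subgroup X) : ℚ))
    (n₁ := ((Y₁.filter (fun x => ¬ v' * x = x * v')).card : ℚ))
    (R₃ := (Y₃.card : ℚ)) (R₂ := (Y₂.card : ℚ))
    (by exact_mod_cast hp) (by exact_mod_cast hqp.two_le) (by positivity) (by positivity) hc2
    hk (by rw [← hY₁F]; exact hs1) hs3 (by exact_mod_cast hY₁2) (by positivity) (by positivity)
    hR₃ hR₂ (by exact_mod_cast hQ₀t) (by rw [← cp_eq hp]; exact hnum)
  rw [cp_eq hp, mS_insert q S' hq, ← hm']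
  have h1 : q ^ (Nat.card X).factorization q = t := by
    rw [ht, Sylow.card_eq_multiplicity]
  rw [h1]
  push_cast
  exact hfinal

end caseiii

section main

/-- The auxiliary bound for `q = 3`, `p = 2`: if `Z` has no abelian Sylow `2`-subgroup, then
`k_2(Z) ≤ |X|_2 / 2`. -/
theorem term_le_half {X : Type u} [Group X] [Finite X] [Fact (2 : ℕ).Prime] {H' : Subgroup X}
    (habH : IsAb H') (hcardH : Nat.card H' = mS {2} X) (Z : Subgroup X)
    (hno : ¬ ∃ E : Subgroup X, E ≤ Z ∧ IsAb E ∧ Nat.card E = mS {2} X) :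
    (kS {2} Z : ℚ) ≤ (1 / 2) * mS {2} X := by
  have hS : ∀ r ∈ ({2} : Finset ℕ), r.Prime := by
    intro r hr
    rw [Finset.mem_singleton.mp hr]
    exact Nat.prime_two
  have h1 := kS_le_mS {2} Z hS
  have hne : mS {2} Z ≠ mS {2} X := by
    intro h
    apply hno
    obtain ⟨R⟩ : Nonempty (Sylow 2 Z) := inferInstance
    have hRc : Nat.card R = mS {2} Z := card_sylow_eq_mS R
    have hcard : Nat.card ((R : Subgroup Z).map Z.subtype) = mS {2} X := by
      rw [← h, ← hRc]
      exact Subgroup.card_map_of_injective Z.subtype_injective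
    obtain ⟨g, hg⟩ := exists_conj_of_hall hS habH hcardH hcard
    refine ⟨_, ?_, isAb_of_conj habH hg, hcard⟩
    rintro _ ⟨x, -, rfl⟩
    exact x.2
  have h2 := mul_le_mS_of_dvd_of_ne hS (p := 2) (by simp) (mS_sub_dvd {2} Z) hne
  have h3 : (2 : ℚ) * mS {2} Z ≤ mS {2} X := by exact_mod_cast h2
  have h4 : (kS {2} Z : ℚ) ≤ mS {2} Z := by exact_mod_cast h1
  linarith

/-- The main bound (Maróti–Nguyen): if `X` has no abelian Hall `S`-subgroup, then the number of
classes of `S`-elements is at most `(p² + p - 1)/p³` times the `S`-part of the order. -/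
theorem kS_bound (S : Finset ℕ) : (∀ r ∈ S, r.Prime) → ∀ p : ℕ, p.Prime → (∀ r ∈ S, p ≤ r) →
    ∀ (X : Type u) [Group X] [Finite X],
      (¬ ∃ H : Subgroup X, Nat.card H = mS S X ∧ IsAb H) →
      (kS S X : ℚ) ≤ cp p * mS S X := by
  classical
  induction S using Finset.induction_on_max with
  | empty =>
    intro _ p _ _ X _ _ hno
    exfalso
    apply hno
    refine ⟨⊥, by rw [mS_empty]; simp, ?_⟩
    intro a ha b hb
    rw [Subgroup.mem_bot.mp ha, Subgroup.mem_bot.mp hb]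
  | insert q S' hlt IH =>
    intro hS p hpp hpS X _ _ hno
    have hq : q ∉ S' := fun h => lt_irrefl _ (hlt q h)
    have hqp : q.Prime := hS q (Finset.mem_insert_self _ _)
    haveI : Fact q.Prime := ⟨hqp⟩
    have hS' : ∀ r ∈ S', r.Prime := fun r hr => hS r (Finset.mem_insert_of_mem hr)
    have hpS' : ∀ r ∈ S', p ≤ r := fun r hr => hpS r (Finset.mem_insert_of_mem hr)
    have hpq : p ≤ q := hpS q (Finset.mem_insert_self _ _)
    have hp : 2 ≤ p := hpp.two_le
    have IH' := IH hS' p hpp hpS'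
    have hm0 : (0 : ℚ) ≤ mS S' X := by positivity
    obtain ⟨Q₀⟩ : Nonempty (Sylow q X) := inferInstance
    have hQ₀c : Nat.card Q₀ = q ^ (Nat.card X).factorization q := by
      rw [Sylow.card_eq_multiplicity]
    have hmS : (mS (insert q S') X : ℚ) = (Nat.card Q₀ : ℚ) * mS S' X := by
      rw [mS_insert q S' hq, hQ₀c]
      push_cast
      rfl
    by_cases hQab : ∀ Q : Sylow q X, IsAb (Q : Subgroup X)
    swap
    · -- a nonabelian Sylow `q`-subgroup
      push Not at hQab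
      obtain ⟨Q, hna⟩ := hQab
      obtain ⟨Y, hYcard, hYcov⟩ := exists_reps_nonabelian hqp (Q : Subgroup X) Q.isPGroup' hna
      have hsum := kS_le_sum (insert q S') {q} S' Y (dec_q q S') (by
        intro a ha
        obtain ⟨g, hg⟩ := exists_conj_mem_sylow Q ha
        obtain ⟨y, hy, hc⟩ := hYcov _ hg
        exact ⟨y, hy, (isConj_iff.mpr ⟨g, rfl⟩).trans hc⟩)
      have hle : ∑ y ∈ Y, kS S' (Subgroup.centralizer ({y} : Set X)) ≤ Y.card * mS S' X := by
        rw [← smul_eq_mul]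
        apply Finset.sum_le_card_nsmul
        intro y _
        exact (kS_le_mS S' _ hS').trans (mS_le_of_sub S' hS' _)
      have h1 : (kS (insert q S') X : ℚ) ≤ Y.card * mS S' X := by
        exact_mod_cast hsum.trans hle
      have hQc : (Nat.card Q : ℚ) = Nat.card Q₀ := by
        rw [card_sylow_eq_mS, card_sylow_eq_mS]
      rw [hQc] at hYcard
      rw [hmS]
      calc (kS (insert q S') X : ℚ) ≤ Y.card * mS S' X := h1
        _ ≤ (cp q * Nat.card Q₀) * mS S' X := mul_le_mul_of_nonneg_right hYcard hm0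
        _ ≤ (cp p * Nat.card Q₀) * mS S' X := by
            apply mul_le_mul_of_nonneg_right _ hm0
            apply mul_le_mul_of_nonneg_right (cp_anti hp hpq)
            positivity
        _ = _ := by ring
    by_cases hE : ∃ E : Subgroup X, IsAb E ∧ Nat.card E = mS S' X
    swap
    · -- no abelian subgroup of order `m'`
      have hsum := kS_le_sum (insert q S') {q} S' (fs (Q₀ : Subgroup X)) (dec_q q S') (by
        intro a ha
        obtain ⟨g, hg⟩ := exists_conj_mem_sylow Q₀ ha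
        exact ⟨_, mem_fs.mpr hg, isConj_iff.mpr ⟨g, rfl⟩⟩)
      have hsum' : (kS (insert q S') X : ℚ) ≤
          ∑ y ∈ fs (Q₀ : Subgroup X), (kS S' (Subgroup.centralizer ({y} : Set X)) : ℚ) := by
        exact_mod_cast hsum
      have hle : ∑ y ∈ fs (Q₀ : Subgroup X), (kS S' (Subgroup.centralizer ({y} : Set X)) : ℚ) ≤
          ∑ _y ∈ fs (Q₀ : Subgroup X), cp p * mS S' X := by
        apply Finset.sum_le_sum
        intro y _
        apply term_le_cp hS' hp hpS' IH'
        rintro ⟨E, -, hE₁, hE₂⟩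
        exact hE ⟨E, hE₁, hE₂⟩
      rw [Finset.sum_const, card_fs, nsmul_eq_mul] at hle
      rw [hmS]
      calc (kS (insert q S') X : ℚ) ≤ _ := hsum'.trans hle
        _ = _ := by ring
    obtain ⟨E, habE, hcardE⟩ := hE
    have hnc : ∀ E : Subgroup X, IsAb E → Nat.card E = mS S' X → ∀ Q : Sylow q X,
        ¬ ∀ a ∈ E, ∀ b ∈ (Q : Subgroup X), a * b = b * a := by
      intro E habE hcardE Q hcomm
      obtain ⟨H, hH₁, hH₂⟩ := exists_abelian_of_commute hq hS' habE (hQab Q) hcardE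
        (card_sylow_eq_mS Q) hcomm
      exact hno ⟨H, hH₁, hH₂⟩
    have hne : S'.Nonempty := by
      rw [Finset.nonempty_iff_ne_empty]
      rintro rfl
      apply hnc E habE hcardE Q₀
      intro a ha b _
      rw [mS_empty] at hcardE
      have h1 : E = ⊥ := (Subgroup.card_eq_one).mp hcardE
      rw [h1, Subgroup.mem_bot] at ha
      rw [ha, one_mul, mul_one]
    obtain ⟨r₀, hr₀⟩ := hne
    have hpq' : p < q := lt_of_le_of_lt (hpS' r₀ hr₀) (hlt r₀ hr₀)
    by_cases hQN : ∃ Q : Sylow q X, Subgroup.normalizer ((Q : Subgroup X) : Set X) ≤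
        Subgroup.centralizer ((Q : Subgroup X) : Set X)
    · obtain ⟨Q, hQ⟩ := hQN
      obtain ⟨K, hKn, hKq, hKq'⟩ := exists_complement_of_sylow Q hQ
      haveI := hKn
      exact case_i hS' hp hpS' hq hpq habE hcardE hQab hKq hKq' (hnc E habE hcardE)
    have hWQ : ∀ Q : Sylow q X, ¬ Subgroup.normalizer ((Q : Subgroup X) : Set X) ≤
        Subgroup.centralizer ((Q : Subgroup X) : Set X) := fun Q h => hQN ⟨Q, h⟩
    by_cases hE' : ∃ E' : Subgroup X, IsAb E' ∧ Nat.card E' = mS S' X ∧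
        ¬ Subgroup.normalizer (E' : Set X) ≤ Subgroup.centralizer (E' : Set X)
    · obtain ⟨E', habE', hcardE', hW'⟩ := hE'
      have hp0 : (0 : ℚ) < p := by exact_mod_cast hpp.pos
      have hq0 : (0 : ℚ) < q := by exact_mod_cast hqp.pos
      by_cases h2 : p + 2 ≤ q
      · -- the generic case
        refine case_iii hS' hp hpS' hq habE' hcardE' hQab hWQ hW' (hnc E' habE' hcardE')
          (c2 := cp p) (cp_nonneg hp) (fun Z hZ => term_le_cp hS' hp hpS' IH' Z hZ) ?_
        have h3 := one_div_le_cp hp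
        have h4 : ((p : ℚ) + 2) ≤ q := by exact_mod_cast h2
        -- `(p + 1)/p ≤ (q - 1) cp(p)`
        have h5 : ((p : ℚ) + 1) / p ≤ ((q : ℚ) - 1) * cp p := by
          have h6 : ((q : ℚ) - 1) * (1 / p) ≤ ((q : ℚ) - 1) * cp p :=
            mul_le_mul_of_nonneg_left h3 (by linarith)
          refine le_trans ?_ h6
          rw [mul_one_div]
          apply div_le_div_of_nonneg_right _ hp0.le
          linarith
        have h7 : ((p : ℚ) + 1) / (2 * p) / q + ((q : ℚ) + 1) / (2 * q) * cp p - cp p =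
            (((p : ℚ) + 1) / p - ((q : ℚ) - 1) * cp p) / (2 * q) := by
          field_simp
          ring
        have h8 : (((p : ℚ) + 1) / p - ((q : ℚ) - 1) * cp p) / (2 * q) ≤ 0 :=
          div_nonpos_of_nonpos_of_nonneg (by linarith) (by positivity)
        linarith
      · -- the exceptional case `p = 2`, `q = 3`
        have hq1 : q = p + 1 := by omega
        have hp2 : p = 2 := by
          rcases hpp.eq_two_or_odd with h | h
          · exact h
          · rcases hqp.eq_two_or_odd with h' | h'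
            · omega
            · omega
        subst hp2
        subst hq1
        have hSs : S' = {2} := by
          ext r
          rw [Finset.mem_singleton]
          constructor
          · intro hr
            have h1 := hlt r hr
            have h2' := hpS' r hr
            omega
          · rintro rfl
            have h1 := hlt r₀ hr₀
            have h2' := hpS' r₀ hr₀
            have h3 : r₀ = 2 := by omega
            exact h3 ▸ hr₀
        subst hSs
        haveI : Fact (2 : ℕ).Prime := ⟨Nat.prime_two⟩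
        refine case_iii hS' hp hpS' hq habE' hcardE' hQab hWQ hW' (hnc E' habE' hcardE')
          (c2 := 1 / 2) (by norm_num) (fun Z hZ => term_le_half habE' hcardE' Z hZ) ?_
        norm_num [cp]
    · -- every abelian subgroup of order `m'` has `N ≤ C`
      have hWall : ∀ E' : Subgroup X, IsAb E' → Nat.card E' = mS S' X →
          Subgroup.normalizer (E' : Set X) ≤ Subgroup.centralizer (E' : Set X) := by
        intro E' h1 h2
        by_contra h3
        exact hE' ⟨E', h1, h2, h3⟩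
      obtain ⟨E₁, habE₁, hcardE₁, hE₁N⟩ := exists_abelian_hall_normalizing hS' hq habE hcardE
        (hWall E habE hcardE) Q₀ (hQab Q₀)
      exact case_ii hS' hp hpS' hq hpq habE₁ hcardE₁ (hWall E₁ habE₁ hcardE₁) Q₀ (hQab Q₀) hE₁N
        (hnc E₁ habE₁ hcardE₁ Q₀)

/-- The statement in the form of the frozen statement. -/
theorem exists_abelian_hall {G : Type u} [Group G] [Finite G]
    (π : Set ℕ) (hπ : ∀ q ∈ π, q.Prime) (p : ℕ) (hp : p ∈ π) (hmin : ∀ q ∈ π, p ≤ q)
    (m : ℕ) (hm : m ∣ Nat.card G) (hmπ : ∀ q : ℕ, q.Prime → q ∣ m → q ∈ π)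
    (hm' : ∀ q ∈ π, ¬ q ∣ Nat.card G / m)
    (k : ℕ)
    (hk : k = Nat.card {C : ConjClasses G // ∀ q : ℕ, q.Prime →
      (∃ g : G, ConjClasses.mk g = C ∧ q ∣ orderOf g) → q ∈ π})
    (hmany : m * (p ^ 2 + p - 1) < p ^ 3 * k) :
    ∃ H : Subgroup G, Nat.card H = m ∧ IsMulCommutative H := by
  classical
  set S : Finset ℕ := (Nat.card G).primeFactors.filter (· ∈ π) with hSdef
  have hS : ∀ r ∈ S, r.Prime := fun r hr => hπ r (Finset.mem_filter.mp hr).2
  have hpS : ∀ r ∈ S, p ≤ r := fun r hr => hmin r (Finset.mem_filter.mp hr).2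
  have hpp := hπ p hp
  have hcardG : Nat.card G ≠ 0 := Nat.card_pos.ne'
  obtain ⟨c, hc⟩ := hm
  have hm0 : m ≠ 0 := by
    rintro rfl
    simp at hc
    exact hcardG hc
  have hdiv : Nat.card G / m = c := by
    rw [hc]
    exact Nat.mul_div_cancel_left c (Nat.pos_of_ne_zero hm0)
  have hmS : m = mS S G := by
    apply Nat.eq_of_factorization_eq hm0 (mS_pos S hS G).ne'
    intro r
    by_cases hr : r ∈ S
    · rw [factorization_mS_of_mem hS G hr]
      have hc0 : c ≠ 0 := by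
        rintro rfl
        exact hcardG (by rw [hc, mul_zero])
      have hrπ : r ∈ π := (Finset.mem_filter.mp hr).2
      have hnd : ¬ r ∣ c := by
        have := hm' r hrπ
        rwa [hdiv] at this
      rw [hc, Nat.factorization_mul hm0 hc0, Finsupp.add_apply,
        Nat.factorization_eq_zero_of_not_dvd hnd, add_zero]
    · have h1 : (mS S G).factorization r = 0 := by
        by_cases hrp : r.Prime
        · apply Nat.factorization_eq_zero_of_not_dvd
          intro h
          exact hr (mem_of_prime_dvd_mS hS hrp h)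
        · exact Nat.factorization_eq_zero_of_not_prime _ hrp
      rw [h1]
      by_cases hrp : r.Prime
      · apply Nat.factorization_eq_zero_of_not_dvd
        intro h
        apply hr
        refine Finset.mem_filter.mpr ⟨Nat.mem_primeFactors.mpr ⟨hrp, ?_, hcardG⟩, hmπ r hrp h⟩
        rw [hc]
        exact h.trans (dvd_mul_right _ _)
      · exact Nat.factorization_eq_zero_of_not_prime _ hrp
  have hkle : k ≤ kS S G := by
    rw [hk]
    unfold kS
    apply Nat.card_le_card_of_injective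
      (fun C : {C : ConjClasses G // ∀ q : ℕ, q.Prime →
        (∃ g : G, ConjClasses.mk g = C ∧ q ∣ orderOf g) → q ∈ π} =>
        (⟨C.1, by
          obtain ⟨x, hx⟩ := ConjClasses.mk_surjective C.1
          refine ⟨x, hx, ?_⟩
          intro r hr hd
          refine Finset.mem_filter.mpr ⟨Nat.mem_primeFactors.mpr ⟨hr, ?_, hcardG⟩,
            C.2 r hr ⟨x, hx, hd⟩⟩
          exact hd.trans (orderOf_dvd_natCard x)⟩ :
          {C : ConjClasses G // ∃ x : G, ConjClasses.mk x = C ∧ IsSElt S x}))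
    intro a b hab
    exact Subtype.ext (congrArg (fun z => z.1) hab)
  by_contra hnone
  have hbound := kS_bound S hS p hpp hpS G (by
    rintro ⟨H, h1, h2⟩
    exact hnone ⟨H, hmS.symm ▸ h1, isMulCommutative_of_isAb h2⟩)
  rw [← hmS] at hbound
  have hp2 : 2 ≤ p := hpp.two_le
  have hp0 : (0 : ℚ) < p := by exact_mod_cast hpp.pos
  have h1 : (k : ℚ) ≤ cp p * m := by
    refine le_trans ?_ hbound
    exact_mod_cast hkle
  have h2 : ((p ^ 2 + p - 1 : ℕ) : ℚ) = (p : ℚ) ^ 2 + p - 1 := by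
    rw [Nat.cast_sub (by nlinarith)]
    push_cast
    ring
  have h3 : ((m * (p ^ 2 + p - 1) : ℕ) : ℚ) < ((p ^ 3 * k : ℕ) : ℚ) := by exact_mod_cast hmany
  rw [Nat.cast_mul, h2, Nat.cast_mul, Nat.cast_pow] at h3
  have h4 : (p : ℚ) ^ 3 * k ≤ (p : ℚ) ^ 3 * (cp p * m) :=
    mul_le_mul_of_nonneg_left h1 (by positivity)
  have h5 : (p : ℚ) ^ 3 * (cp p * m) = m * ((p : ℚ) ^ 2 + p - 1) := by
    unfold cp
    field_simp
  linarith

end main

end Cfsg.Agent.Lib.PiClasses
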