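import Mathlib
import Cfsg.Agent.Lib.PiClasses.Bound
import Cfsg.Agent.Lib.Char.CompleteCor
import Cfsg.Agent.Lib.Char.LinearChars
import Cfsg.Agent.Lib.Char.GlaubOver

/-!
# Nilpotent Hall subgroups from many classes of `S`-elements

If the number of classes of `S`-elements exceeds `|X|_S / p`, then `X` has a nilpotent Hall
`S`-subgroup whose derived subgroup has order at most `p`.
-/

set_option autoImplicit false

open Pointwise

namespace Cfsg.Agent.Lib.PiClasses

universe u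

section pchar

open Cfsg Cfsg.Agent.Lib.Char

/-- Number of classes of a `p`-group with `|P'| ≥ p²`: at most `|P| / p`. -/
theorem mul_card_conjClasses_le {P : Type u} [Group P] [Finite P] {p : ℕ} (hp : p.Prime)
    (hP : IsPGroup p P) (hc : p ^ 2 ≤ Nat.card (commutator P)) :
    p * Nat.card (ConjClasses P) ≤ Nat.card P := by
  classical
  haveI : Fact p.Prime := ⟨hp⟩
  cases nonempty_fintype P
  letI : Fintype (IrrCharacter P) := Fintype.ofFinite _
  choose d hd1 hd0 hdd using (fun χ : IrrCharacter P =>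
    Cfsg.Agent.Lib.Char.GlaubOver.exists_degree_dvd χ.2)
  have hsum : ∑ χ : IrrCharacter P, (d χ) ^ 2 = Nat.card P := by
    have h := CompleteCor.sum_sq_degrees (G := P)
    simp_rw [hd1] at h
    exact_mod_cast h
  obtain ⟨a, ha⟩ := IsPGroup.iff_card.mp hP
  have hnl : ∀ χ : IrrCharacter P, ¬ (χ : P → ℂ) 1 = 1 → p ≤ d χ := by
    intro χ h
    refine le_of_dvd_ne_one_of_pow hp (ha ▸ hdd χ) (fun h1 => h ?_)
    rw [hd1, h1]
    simp
  have hl : ∀ χ : IrrCharacter P, (χ : P → ℂ) 1 = 1 → d χ = 1 := by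
    intro χ h
    have := hd1 χ
    rw [h] at this
    exact_mod_cast this.symm
  set s := (commutator P).index with hs
  have hlin : (Finset.univ.filter (fun χ : IrrCharacter P => (χ : P → ℂ) 1 = 1)).card = s := by
    rw [hs, ← LinearChars.card_linear_chars, Nat.card_eq_fintype_card, Fintype.card_subtype]
  set t := Nat.card P with ht
  set n := Nat.card (IrrCharacter P) with hn
  have hn' : n = Nat.card (ConjClasses P) := CompleteCor.card_irr_eq_card_conjClasses
  have hcardall : (Finset.univ.filter (fun χ : IrrCharacter P => (χ : P → ℂ) 1 = 1)).card +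
      (Finset.univ.filter (fun χ : IrrCharacter P => ¬ (χ : P → ℂ) 1 = 1)).card = n := by
    rw [Finset.card_filter_add_card_filter_not, Finset.card_univ, hn, Nat.card_eq_fintype_card]
  have hmain : s + (n - s) * p ^ 2 ≤ t := by
    rw [← hsum, ← Finset.sum_filter_add_sum_filter_not Finset.univ
      (fun χ : IrrCharacter P => (χ : P → ℂ) 1 = 1)]
    apply add_le_add
    · rw [← hlin, Finset.card_eq_sum_ones]
      apply Finset.sum_le_sum
      intro χ hχ
      rw [hl χ (Finset.mem_filter.mp hχ).2]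
      simp
    · have h1 : n - s = (Finset.univ.filter (fun χ : IrrCharacter P => ¬ (χ : P → ℂ) 1 = 1)).card := by
        omega
      rw [h1, ← smul_eq_mul]
      apply Finset.card_nsmul_le_sum
      intro χ hχ
      exact Nat.pow_le_pow_left (hnl χ (Finset.mem_filter.mp hχ).2) 2
  have hst : p ^ 2 * s ≤ t := by
    have h2 := (commutator P).card_mul_index
    rw [← ht, ← hs] at h2
    rw [← h2]
    exact Nat.mul_le_mul_right _ hc
  have hsn : s ≤ n := by omega
  obtain ⟨e, he⟩ : ∃ e, n = s + e := ⟨n - s, by omega⟩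
  rw [he, Nat.add_sub_cancel_left] at hmain
  rw [← hn', he]
  have hp2 : 2 ≤ p := hp.two_le
  -- `s + e p² ≤ t`, `p² s ≤ t` ⇒ `p (s + e) ≤ t`
  have h3 : p * (p * (p * (s + e))) ≤ p * (p * t) := by
    have h4 : p * (p * (p * (s + e))) = p * (p ^ 2 * s) + p * (e * p ^ 2) := by ring
    rw [h4]
    have h5 : p * (p ^ 2 * s) ≤ p * t := Nat.mul_le_mul_left _ hst
    have h6 : p * (e * p ^ 2) ≤ p * t := by
      apply Nat.mul_le_mul_left
      omega
    have h7 : p * t + p * t ≤ p * (p * t) := by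
      have : 2 * (p * t) ≤ p * (p * t) := Nat.mul_le_mul_right _ hp2
      omega
    omega
  have hp0 : 0 < p := hp.pos
  exact Nat.le_of_mul_le_mul_left (Nat.le_of_mul_le_mul_left h3 hp0) hp0

end pchar

section wielandt

variable {X : Type u} [Group X] [Finite X]

/-- Wielandt for nilpotent Hall subgroups: `S`-elements are conjugate into `H`. -/
theorem exists_conj_mem_of_hallN {S : Finset ℕ} (hS : ∀ r ∈ S, r.Prime) {H : Subgroup X}
    (hnil : Group.IsNilpotent H) (hH : Nat.card H = mS S X) {x : X} (hx : IsSElt S x) :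
    ∃ g : X, g * x * g⁻¹ ∈ H := by
  obtain ⟨g, hg⟩ := Cfsg.Agent.Lib.Nilpotent.WielandtHall.exists_le_conj_of_nilpotent_hall H
    (Subgroup.zpowers x) hnil (coprime_index_of_card_eq_mS hS H hH) (by
      intro r hr hd
      rw [Nat.card_zpowers] at hd
      rw [hH]
      exact prime_dvd_mS (hx r hr hd) hr (hd.trans (orderOf_dvd_natCard x)))
  have h1 := hg (Subgroup.mem_zpowers x)
  obtain ⟨h, hh, he⟩ := Subgroup.mem_smul_pointwise_iff_exists _ _ _ |>.mp h1
  refine ⟨g⁻¹, ?_⟩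
  rw [← he]
  simpa [MulAut.smul_def, MulAut.conj_apply, mul_assoc] using hh

/-- Conjugacy of nilpotent Hall subgroups: `H₂ = g H₁ g⁻¹`. -/
theorem exists_conj_of_hallN {S : Finset ℕ} (hS : ∀ r ∈ S, r.Prime) {H₁ H₂ : Subgroup X}
    (hnil₁ : Group.IsNilpotent H₁) (hH₁ : Nat.card H₁ = mS S X) (hH₂ : Nat.card H₂ = mS S X) :
    ∃ g : X, ∀ x, x ∈ H₂ ↔ g⁻¹ * x * g ∈ H₁ := by
  obtain ⟨g, hg⟩ := Cfsg.Agent.Lib.Nilpotent.WielandtHall.exists_le_conj_of_nilpotent_hall H₁
    H₂ hnil₁ (coprime_index_of_card_eq_mS hS H₁ hH₁) (by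
      intro r hr hd
      rw [hH₂] at hd
      rw [hH₁]
      exact hd)
  have hc : Nat.card (MulAut.conj g • H₁ : Subgroup X) = Nat.card H₁ :=
    Nat.card_congr (Subgroup.equivSMul (MulAut.conj g) H₁).symm.toEquiv
  have heq : H₂ = MulAut.conj g • H₁ :=
    Subgroup.eq_of_le_of_card_ge hg (by rw [hc, hH₁, hH₂])
  refine ⟨g, fun x => ?_⟩
  rw [heq, Subgroup.mem_smul_pointwise_iff_exists]
  constructor
  · rintro ⟨h, hh, rfl⟩
    simpa [MulAut.smul_def, MulAut.conj_apply, mul_assoc] using hh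
  · intro h
    exact ⟨_, h, by simp [MulAut.smul_def, MulAut.conj_apply, mul_assoc]⟩

theorem isNilpotent_subgroupOf {H Z : Subgroup X} (hHZ : H ≤ Z) (hnil : Group.IsNilpotent H) :
    Group.IsNilpotent (H.subgroupOf Z) :=
  (Group.isNilpotent_congr (Subgroup.subgroupOfEquivOfLe hHZ)).mpr hnil

/-- Wielandt inside a subgroup. -/
theorem exists_conj_mem_subN {S : Finset ℕ} (hS : ∀ r ∈ S, r.Prime) {H Z : Subgroup X}
    (hHZ : H ≤ Z) (hnil : Group.IsNilpotent H) (hH : Nat.card H = mS S Z) {x : X} (hxZ : x ∈ Z)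
    (hx : IsSElt S x) : ∃ c ∈ Z, c * x * c⁻¹ ∈ H := by
  obtain ⟨g, hg⟩ := exists_conj_mem_of_hallN (X := Z) (H := H.subgroupOf Z) (x := ⟨x, hxZ⟩) hS
    (isNilpotent_subgroupOf hHZ hnil) (by rw [card_subgroupOf_of_le hHZ, hH]) (isSElt_coe.mpr hx)
  refine ⟨g, g.2, ?_⟩
  have := Subgroup.mem_subgroupOf.mp hg
  simpa using this

/-- Conjugacy of nilpotent Hall subgroups inside a subgroup. -/
theorem exists_conj_subN {S : Finset ℕ} (hS : ∀ r ∈ S, r.Prime) {H₁ H₂ Z : Subgroup X}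
    (h₁ : H₁ ≤ Z) (h₂ : H₂ ≤ Z) (hnil₁ : Group.IsNilpotent H₁) (hH₁ : Nat.card H₁ = mS S Z)
    (hH₂ : Nat.card H₂ = mS S Z) :
    ∃ c ∈ Z, ∀ x ∈ Z, x ∈ H₂ ↔ c⁻¹ * x * c ∈ H₁ := by
  obtain ⟨g, hg⟩ := exists_conj_of_hallN (X := Z) (H₁ := H₁.subgroupOf Z) (H₂ := H₂.subgroupOf Z) hS
    (isNilpotent_subgroupOf h₁ hnil₁) (by rw [card_subgroupOf_of_le h₁, hH₁])
    (by rw [card_subgroupOf_of_le h₂, hH₂])
  refine ⟨g, g.2, fun x hx => ?_⟩
  have := hg ⟨x, hx⟩
  simpa [Subgroup.mem_subgroupOf] using this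

/-- A Frattini argument for a nilpotent Hall subgroup of a normal subgroup. -/
theorem exists_mem_normalizerN {S : Finset ℕ} (hS : ∀ r ∈ S, r.Prime) {Z H : Subgroup X}
    [Z.Normal] (hHZ : H ≤ Z) (hnil : Group.IsNilpotent H) (hcard : Nat.card H = mS S Z) (g : X) :
    ∃ c ∈ Z, c⁻¹ * g ∈ Subgroup.normalizer (H : Set X) := by
  set H₂ : Subgroup X := H.map (MulAut.conj g).toMonoidHom with hH₂
  have h₂Z : H₂ ≤ Z := by
    rintro _ ⟨x, hx, rfl⟩
    exact (inferInstance : Z.Normal).conj_mem x (hHZ hx) g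
  have hc₂ : Nat.card H₂ = mS S Z := by
    rw [← hcard]
    exact (Nat.card_congr (Subgroup.equivMapOfInjective H _
      (MulAut.conj g).injective).toEquiv).symm
  obtain ⟨c, hc, hiff⟩ := exists_conj_subN hS hHZ h₂Z hnil hcard hc₂
  refine ⟨c, hc, ?_⟩
  have hmem : ∀ x, x ∈ H₂ ↔ g⁻¹ * x * g ∈ H := by
    intro x
    constructor
    · rintro ⟨a, ha, rfl⟩
      simpa [MulAut.conj_apply, mul_assoc] using ha
    · intro h
      exact ⟨_, h, by simp [MulAut.conj_apply, mul_assoc]⟩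
  rw [Subgroup.mem_normalizer_iff]
  intro x
  have h0 : (c⁻¹ * g) * x * (c⁻¹ * g)⁻¹ = c⁻¹ * (g * x * g⁻¹) * c := by group
  rw [h0]
  constructor
  · intro hx
    have h1 : g * x * g⁻¹ ∈ H₂ := (hmem _).mpr (by simpa [mul_assoc] using hx)
    exact (hiff _ (h₂Z h1)).mp h1
  · intro hx
    have h1 : g * x * g⁻¹ ∈ Z := by
      have h2 : g * x * g⁻¹ = c * (c⁻¹ * (g * x * g⁻¹) * c) * c⁻¹ := by group
      rw [h2]
      exact Z.mul_mem (Z.mul_mem hc (hHZ hx)) (Z.inv_mem hc)
    have h3 := (hiff _ h1).mpr hx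
    have h4 := (hmem _).mp h3
    simpa [mul_assoc] using h4

/-- Counting form of the Frattini argument. -/
theorem card_frattiniN {S : Finset ℕ} (hS : ∀ r ∈ S, r.Prime) {Z H : Subgroup X}
    [Z.Normal] (hHZ : H ≤ Z) (hnil : Group.IsNilpotent H) (hcard : Nat.card H = mS S Z) :
    Nat.card X * Nat.card (Z ⊓ Subgroup.normalizer (H : Set X) : Subgroup X) =
      Nat.card Z * Nat.card (Subgroup.normalizer (H : Set X)) := by
  have h := Cfsg.Agent.Lib.Basic.ProductCard.ncard_mul_mul_card_inf Z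
    (Subgroup.normalizer (H : Set X))
  have huniv : (Z : Set X) * ((Subgroup.normalizer (H : Set X) : Subgroup X) : Set X) = Set.univ := by
    ext g
    simp only [Set.mem_univ, iff_true]
    obtain ⟨c, hc, hn⟩ := exists_mem_normalizerN hS hHZ hnil hcard g
    exact ⟨c, hc, c⁻¹ * g, hn, by simp⟩
  rw [huniv, Set.ncard_univ] at h
  exact h

/-- A `q`-Sylow subgroup normalizes a nilpotent Hall subgroup of a normal `q'`-subgroup. -/
theorem exists_sylow_le_normalizerN {q : ℕ} [Fact q.Prime] {S' : Finset ℕ}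
    (hS' : ∀ r ∈ S', r.Prime) {K H' : Subgroup X} [K.Normal] (hKq : ¬ q ∣ Nat.card K)
    (hH'K : H' ≤ K) (hnil : Group.IsNilpotent H') (hcard : Nat.card H' = mS S' X) :
    ∃ Q₁ : Sylow q X, (Q₁ : Subgroup X) ≤ Subgroup.normalizer (H' : Set X) := by
  have hqp : q.Prime := Fact.out
  set N₁ := Subgroup.normalizer (H' : Set X) with hN₁
  have h1 := card_frattiniN hS' hH'K hnil (card_eq_mS_of_le hS' hH'K hcard)
  rw [← hN₁] at h1
  obtain ⟨P⟩ : Nonempty (Sylow q N₁) := inferInstance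
  have hXpos : Nat.card X ≠ 0 := Nat.card_pos.ne'
  have h2 : q ^ (Nat.card X).factorization q ∣ Nat.card N₁ := by
    have h3 : q ^ (Nat.card X).factorization q ∣ Nat.card K * Nat.card N₁ := by
      rw [← h1]
      exact (Nat.ordProj_dvd _ _).trans (Dvd.intro _ rfl)
    exact ((Nat.Prime.coprime_iff_not_dvd hqp).mpr hKq).pow_left _ |>.dvd_of_dvd_mul_left h3
  have h4 : (Nat.card X).factorization q = (Nat.card N₁).factorization q := by
    apply le_antisymm
    · exact (hqp.pow_dvd_iff_le_factorization Nat.card_pos.ne').mp h2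
    · exact (Nat.factorization_le_iff_dvd Nat.card_pos.ne' hXpos).mpr
        (Subgroup.card_subgroup_dvd_card N₁) q
  refine ⟨Sylow.ofCard ((P : Subgroup N₁).map N₁.subtype) ?_, ?_⟩
  · rw [h4, ← Sylow.card_eq_multiplicity P]
    exact (Nat.card_congr (Subgroup.equivMapOfInjective (P : Subgroup N₁) N₁.subtype
      Subtype.val_injective).toEquiv).symm
  · rw [Sylow.coe_ofCard]
    rintro _ ⟨x, -, rfl⟩
    exact x.2

/-- The Sylow subgroup of a nilpotent group contains all its `r`-elements. -/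
theorem mem_sylow_of_nilpotent {r : ℕ} [Fact r.Prime] {H : Subgroup X} (hnil : Group.IsNilpotent H)
    (R : Sylow r H) {z : X} (hz : z ∈ H) {k : ℕ} (hk : z ^ (r ^ k) = 1) :
    z ∈ (R : Subgroup H).map H.subtype := by
  have hrp : r.Prime := Fact.out
  have h1 : orderOf (⟨z, hz⟩ : H) ∣ r ^ k := by
    apply orderOf_dvd_of_pow_eq_one
    apply Subtype.ext
    simpa using hk
  obtain ⟨j, -, hj⟩ := (Nat.dvd_prime_pow hrp).mp h1
  obtain ⟨P, hP⟩ := Cfsg.Agent.Lib.Basic.SylowUtil.exists_sylow_of_orderOf hj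
  haveI hn : (P : Subgroup H).Normal := inferInstance
  have hle : (P : Subgroup H) ≤ R := IsPGroup.le_sylow_of_normal P.isPGroup' R
  exact ⟨⟨z, hz⟩, hle hP, rfl⟩

end wielandt

section action

variable {X : Type u} [Group X] [Finite X]

/-- A `q`-element acting nontrivially on a `q'`-subgroup `A`: `|A : C_A(v)| ≥ q + 1`. -/
theorem succ_mul_card_le {q : ℕ} [Fact q.Prime] {A : Subgroup X} {v : X} {n : ℕ}
    (hv : orderOf v = q ^ n) (hvA : ∀ x ∈ A, v * x * v⁻¹ ∈ A) (hq : ¬ q ∣ Nat.card A)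
    (hne : ∃ a ∈ A, ¬ v * a = a * v) :
    (q + 1) * Nat.card (A ⊓ Subgroup.centralizer ({v} : Set X) : Subgroup X) ≤ Nat.card A := by
  classical
  have hqp : q.Prime := Fact.out
  haveI : Fintype A := Fintype.ofFinite A
  set D : Subgroup X := A ⊓ Subgroup.centralizer ({v} : Set X) with hD
  let f : Function.End A := fun a => ⟨v * a * v⁻¹, hvA a a.2⟩
  have hpow : ∀ i : ℕ, ∀ a : A, (((f ^ i) a : A) : X) = v ^ i * a * (v ^ i)⁻¹ := by
    intro i
    induction i with
    | zero =>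
      intro a
      rw [pow_zero]
      show (a : X) = _
      simp
    | succ i hi =>
      intro a
      rw [pow_succ']
      show v * (((f ^ i) a : A) : X) * v⁻¹ = _
      rw [hi, pow_succ']
      group
  have hf : f ^ q ^ n = 1 := by
    funext a
    apply Subtype.ext
    rw [hpow, ← hv, pow_orderOf_eq_one]
    show _ = (a : X)
    simp
  have h1 := Equiv.Perm.card_fixedPoints_modEq hf
  have hfix : Fintype.card (Function.fixedPoints f) = Nat.card D := by
    rw [← Nat.card_eq_fintype_card]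
    let g : Function.fixedPoints f → D := fun x => ⟨x.1.1, x.1.2, by
      apply Subgroup.mem_centralizer_singleton_iff.mpr
      have h2 : v * (x.1 : X) * v⁻¹ = x.1 := congrArg Subtype.val x.2
      calc (x.1 : X) * v = v * (x.1 : X) * v⁻¹ * v := by rw [h2]
        _ = v * x.1 := by group⟩
    refine Nat.card_eq_of_bijective g ⟨?_, ?_⟩
    · intro a b hab
      exact Subtype.ext (Subtype.ext (congrArg (fun z : D => (z : X)) hab))
    · rintro ⟨a, ha₁, ha₂⟩
      refine ⟨⟨⟨a, ha₁⟩, ?_⟩, rfl⟩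
      apply Subtype.ext
      show v * a * v⁻¹ = a
      have h3 : a * v = v * a := Subgroup.mem_centralizer_singleton_iff.mp ha₂
      rw [← h3]
      group
  rw [hfix, ← Nat.card_eq_fintype_card] at h1
  obtain ⟨e, he⟩ : Nat.card D ∣ Nat.card A := Subgroup.card_dvd_of_le inf_le_left
  have hDA : Nat.card D ≤ Nat.card A := Nat.le_of_dvd Nat.card_pos
    (Subgroup.card_dvd_of_le inf_le_left)
  have hDpos : 0 < Nat.card D := Nat.card_pos
  have he0 : e ≠ 0 := by
    rintro rfl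
    rw [mul_zero] at he
    exact (Nat.card_pos (α := A)).ne' he
  have he1 : e ≠ 1 := by
    rintro rfl
    rw [mul_one] at he
    obtain ⟨a, ha, hav⟩ := hne
    have h2 : D = A := Subgroup.eq_of_le_of_card_ge inf_le_left (by rw [he])
    have h3 : a ∈ D := by rw [h2]; exact ha
    exact hav (Subgroup.mem_centralizer_singleton_iff.mp h3.2).symm
  have h2 : q ∣ Nat.card A - Nat.card D := (Nat.modEq_iff_dvd' hDA).mp h1.symm
  have h3 : Nat.card A - Nat.card D = Nat.card D * (e - 1) := by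
    rw [he, Nat.mul_sub, mul_one]
  rw [h3] at h2
  have h4 : q ∣ e - 1 := by
    rcases (Nat.Prime.dvd_mul hqp).mp h2 with h5 | h5
    · exfalso
      apply hq
      rw [he]
      exact h5.trans (dvd_mul_right _ _)
    · exact h5
  have h5 : q ≤ e - 1 := Nat.le_of_dvd (by omega) h4
  rw [he, mul_comm]
  exact Nat.mul_le_mul_left _ (by omega)

/-- The `S'`-part of `C(y)` divides `|C_{H'}(y)|` when the `q`-element `y` normalizes the nilpotent
Hall subgroup `H'` of the normal `q'`-subgroup `K`. -/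
theorem mS_centralizer_dvdN {q : ℕ} [Fact q.Prime] {S' : Finset ℕ} (hS' : ∀ r ∈ S', r.Prime)
    (hq : q ∉ S') {K H' : Subgroup X} [K.Normal] (hKq : ¬ q ∣ Nat.card K)
    (hKq' : ∀ x : X, ¬ q ∣ orderOf x → x ∈ K) (hH'K : H' ≤ K) (hnil : Group.IsNilpotent H')
    (hcard : Nat.card H' = mS S' X) {y : X} {n : ℕ} (hy : orderOf y = q ^ n)
    (hyN : y ∈ Subgroup.normalizer (H' : Set X)) :
    mS S' (Subgroup.centralizer ({y} : Set X)) ∣
      Nat.card (H' ⊓ Subgroup.centralizer ({y} : Set X) : Subgroup X) := by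
  classical
  have hqp : q.Prime := Fact.out
  apply mS_dvd_of_forall hS' Nat.card_pos.ne'
  intro r hr
  have hrp := hS' r hr
  haveI : Fact r.Prime := ⟨hrp⟩
  have hrq : r ≠ q := fun h => hq (h ▸ hr)
  set Cy := Subgroup.centralizer ({y} : Set X) with hCy
  obtain ⟨R₀⟩ : Nonempty (Sylow r Cy) := inferInstance
  set U : Subgroup X := (R₀ : Subgroup Cy).map Cy.subtype with hU
  have hUcard : Nat.card U = r ^ (Nat.card Cy).factorization r := by
    rw [← Sylow.card_eq_multiplicity R₀]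
    exact (Nat.card_congr (Subgroup.equivMapOfInjective (R₀ : Subgroup Cy) Cy.subtype
      Subtype.val_injective).toEquiv).symm
  have hUp : IsPGroup r U := IsPGroup.of_card hUcard
  have hUC : U ≤ Cy := by
    rintro _ ⟨x, -, rfl⟩
    exact x.2
  have hUK : U ≤ K := by
    intro x hx
    apply hKq'
    intro hd
    obtain ⟨k, hk⟩ := hUp ⟨x, hx⟩
    have h1 : orderOf x ∣ r ^ k := by
      apply orderOf_dvd_of_pow_eq_one
      have := congrArg Subtype.val hk
      simpa using this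
    exact hrq ((Nat.prime_dvd_prime_iff_eq hqp hrp).mp (hqp.dvd_of_dvd_pow (hd.trans h1))).symm
  set A := Subgroup.zpowers y with hA
  have hAK : A ≤ Subgroup.normalizer (K : Set X) := by
    rw [Subgroup.normalizer_eq_top]
    exact le_top
  have hcop : (Nat.card A).Coprime (Nat.card K) := by
    rw [Nat.card_zpowers, hy]
    exact Nat.Coprime.pow_left _ ((Nat.Prime.coprime_iff_not_dvd hqp).mpr hKq)
  have hsolv : Group.IsSolvable A ∨ Group.IsSolvable K := Or.inl inferInstance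
  have hUA : A ≤ Subgroup.normalizer (U : Set X) := by
    apply Cfsg.Agent.Lib.Coprime.InvSylow.le_normalizer_of_forall_conj_mem
    intro a ha x hx
    obtain ⟨j, rfl⟩ := Subgroup.mem_zpowers_iff.mp ha
    have h1 : y * x = x * y := (Subgroup.mem_centralizer_singleton_iff.mp (hUC hx)).symm
    have h2 : Commute (y ^ j) x := (Commute.zpow_left h1 j)
    have h3 : y ^ j * x * (y ^ j)⁻¹ = x := by
      rw [h2.eq]
      group
    rwa [h3]
  obtain ⟨P, hUP, hPA⟩ := Cfsg.Agent.Lib.Coprime.InvSylow.exists_invariant_sylow_ge hAK hcop hsolv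
    r U hUK hUp hUA
  obtain ⟨R₁'⟩ : Nonempty (Sylow r H') := inferInstance
  set R₁ : Subgroup X := (R₁' : Subgroup H').map H'.subtype with hR₁
  have hR₁H : R₁ ≤ H' := by
    rintro _ ⟨x, -, rfl⟩
    exact x.2
  have hXne : Nat.card X ≠ 0 := Nat.card_pos.ne'
  have hR₁card : Nat.card R₁ = r ^ (Nat.card X).factorization r := by
    have h1 : Nat.card R₁ = r ^ (Nat.card H').factorization r := by
      rw [← Sylow.card_eq_multiplicity R₁']
      exact (Nat.card_congr (Subgroup.equivMapOfInjective (R₁' : Subgroup H') H'.subtype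
        Subtype.val_injective).toEquiv).symm
    rw [h1, hcard, factorization_mS_of_mem hS' X hr]
  have hfacK : (Nat.card K).factorization r = (Nat.card X).factorization r := by
    apply le_antisymm
    · exact (Nat.factorization_le_iff_dvd Nat.card_pos.ne' hXne).mpr
        (Subgroup.card_subgroup_dvd_card K) r
    · have h2 : Nat.card R₁ ∣ Nat.card K := Subgroup.card_dvd_of_le (hR₁H.trans hH'K)
      rw [hR₁card] at h2
      exact (hrp.pow_dvd_iff_le_factorization Nat.card_pos.ne').mp h2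
  let R₂ : Sylow r K := Sylow.ofCard (R₁.subgroupOf K) (by
    rw [card_subgroupOf_of_le (hR₁H.trans hH'K), hR₁card, hfacK])
  have hR₂map : ((R₂ : Subgroup K).map K.subtype) = R₁ := by
    rw [Sylow.coe_ofCard, Subgroup.subgroupOf_map_subtype, inf_of_le_left (hR₁H.trans hH'K)]
  have hR₂A : A ≤ Subgroup.normalizer (((R₂ : Subgroup K).map K.subtype : Subgroup X) : Set X) := by
    rw [hR₂map]
    apply Cfsg.Agent.Lib.Coprime.InvSylow.le_normalizer_of_forall_conj_mem
    intro a ha x hx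
    have haN : a ∈ Subgroup.normalizer (H' : Set X) :=
      (Subgroup.zpowers_le.mpr hyN) ha
    have h1 : a * x * a⁻¹ ∈ H' := (Subgroup.mem_normalizer_iff.mp haN x).mp (hR₁H hx)
    have hxp : IsPGroup r R₁ := IsPGroup.of_card hR₁card
    obtain ⟨k, hk⟩ := hxp ⟨x, hx⟩
    have hk' : x ^ (r ^ k) = 1 := by
      have := congrArg Subtype.val hk
      simpa using this
    have h2 : (a * x * a⁻¹) ^ (r ^ k) = 1 := by
      rw [conj_pow, hk']
      group
    exact mem_sylow_of_nilpotent hnil R₁' h1 h2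
  obtain ⟨c, hcC, hcP⟩ := Cfsg.Agent.Lib.Coprime.InvSylow.invariant_sylow_conj hAK hcop hsolv r
    P R₂ hPA hR₂A
  -- `c U c⁻¹` lies in `H' ⊓ C(y)`
  set W : Subgroup X := U.map (MulAut.conj (c : X)).toMonoidHom with hW
  have hWcard : Nat.card W = Nat.card U :=
    (Nat.card_congr (Subgroup.equivMapOfInjective U _ (MulAut.conj (c : X)).injective).toEquiv).symm
  have hcy : (c : X) * y = y * c := by
    have := Subgroup.mem_centralizer_iff.mp hcC y (Subgroup.mem_zpowers y)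
    exact this.symm
  have hWle : W ≤ H' ⊓ Cy := by
    rintro _ ⟨x, hx, rfl⟩
    have hx2 : (MulAut.conj (c : X)).toMonoidHom x = c * x * (c : X)⁻¹ := rfl
    rw [hx2]
    constructor
    · apply hR₁H
      rw [← hR₂map]
      obtain ⟨x', hx', hxx⟩ := hUP hx
      refine ⟨c * x' * c⁻¹, ?_, ?_⟩
      · show (c * x' * c⁻¹ : K) ∈ ((R₂ : Subgroup K) : Set K)
        rw [← hcP]
        exact Subgroup.smul_mem_pointwise_smul x' (MulAut.conj c) (P : Subgroup K) hx'
      · show ((c * x' * c⁻¹ : K) : X) = _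
        rw [← hxx]
        simp
    · show (c : X) * x * (c : X)⁻¹ ∈ Cy
      rw [hCy, Subgroup.mem_centralizer_singleton_iff]
      have h1 : x * y = y * x := Subgroup.mem_centralizer_singleton_iff.mp (hUC hx)
      have hcinv : (c : X)⁻¹ * y = y * (c : X)⁻¹ := by
        calc (c : X)⁻¹ * y = (c : X)⁻¹ * (y * c) * (c : X)⁻¹ := by group
          _ = (c : X)⁻¹ * (c * y) * (c : X)⁻¹ := by rw [hcy]
          _ = y * (c : X)⁻¹ := by group
      calc (c : X) * x * (c : X)⁻¹ * y = c * x * ((c : X)⁻¹ * y) := by group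
        _ = c * x * (y * (c : X)⁻¹) := by rw [hcinv]
        _ = c * (x * y) * (c : X)⁻¹ := by group
        _ = c * (y * x) * (c : X)⁻¹ := by rw [h1]
        _ = (c * y) * x * (c : X)⁻¹ := by group
        _ = (y * c) * x * (c : X)⁻¹ := by rw [hcy]
        _ = _ := by group
  have hdvd : r ^ (Nat.card Cy).factorization r ∣ Nat.card (H' ⊓ Cy : Subgroup X) := by
    rw [← hUcard, ← hWcard]
    exact Subgroup.card_dvd_of_le hWle
  exact (hrp.pow_dvd_iff_le_factorization Nat.card_pos.ne').mp hdvd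

end action

section good

open scoped commutatorElement

variable {X : Type u} [Group X]

/-- The property of the Hall subgroup in the theorem. -/
def IsGood (p : ℕ) (E : Subgroup X) : Prop :=
  Group.IsNilpotent E ∧ Nat.card (⁅E, E⁆ : Subgroup X) ≤ p

theorem isGood_map {p : ℕ} {Z : Subgroup X} {E : Subgroup Z} (h : IsGood p E) :
    IsGood p (E.map Z.subtype) := by
  refine ⟨(Group.isNilpotent_congr (Subgroup.equivMapOfInjective E Z.subtype
    Subtype.val_injective)).mp h.1, ?_⟩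
  rw [← Subgroup.map_commutator]
  refine le_trans (le_of_eq ?_) h.2
  exact (Nat.card_congr (Subgroup.equivMapOfInjective (⁅E, E⁆ : Subgroup Z) Z.subtype
    Subtype.val_injective).toEquiv).symm

theorem isGood_of_isAb {p : ℕ} (hp : 1 ≤ p) {E : Subgroup X} (hab : IsAb E) : IsGood p E := by
  refine ⟨isNilpotent_of_isAb hab, ?_⟩
  have h1 : ⁅E, E⁆ = ⊥ := by
    rw [eq_bot_iff, Subgroup.commutator_le]
    intro a ha b hb
    rw [Subgroup.mem_bot, commutatorElement_eq_one_iff_mul_comm]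
    exact hab a ha b hb
  rw [h1, Subgroup.card_bot]
  exact hp

theorem isAb_of_normalizer_le_centralizer {E : Subgroup X}
    (h : Subgroup.normalizer (E : Set X) ≤ Subgroup.centralizer (E : Set X)) : IsAb E := by
  intro a ha b hb
  have h1 : b ∈ Subgroup.normalizer (E : Set X) := Subgroup.le_normalizer hb
  exact Subgroup.mem_centralizer_iff.mp (h h1) a ha

variable [Finite X]

/-- Commuting Hall subgroups give a good Hall subgroup. -/
theorem exists_good_of_commute {p : ℕ} {q : ℕ} [Fact q.Prime] {S' : Finset ℕ} (hq : q ∉ S')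
    (hS' : ∀ r ∈ S', r.Prime) {H' Q : Subgroup X} (hgood : IsGood p H') (habQ : IsAb Q)
    (hcardH : Nat.card H' = mS S' X) (hcardQ : Nat.card Q = mS {q} X)
    (hcomm : ∀ a ∈ H', ∀ b ∈ Q, a * b = b * a) :
    ∃ H : Subgroup X, Nat.card H = mS (insert q S') X ∧ IsGood p H := by
  classical
  have hqp : q.Prime := Fact.out
  refine ⟨H' ⊔ Q, ?_, ?_, ?_⟩
  · have hN : Q ≤ Subgroup.normalizer (H' : Set X) := by
      intro b hb
      rw [Subgroup.mem_normalizer_iff]
      intro a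
      constructor
      · intro ha
        have : b * a * b⁻¹ = a := by
          rw [← hcomm a ha b hb]
          group
        rwa [this]
      · intro ha
        have h1 : b * a * b⁻¹ ∈ H' := ha
        have h2 := hcomm _ h1 b hb
        have h3 : b * a * b⁻¹ * b = b * (b * a * b⁻¹) := h2
        have h4 : a = b * a * b⁻¹ := by
          have : b * a = b * (b * a * b⁻¹) := by
            rw [← h3]
            group
          exact mul_left_cancel this
        rwa [h4]
    have h := Cfsg.Agent.Lib.Basic.ProductCard.ncard_mul_mul_card_inf H' Q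
    rw [← Subgroup.coe_mul_of_right_le_normalizer_left H' Q hN, ← Nat.card_coe_set_eq] at h
    have hcop : (Nat.card H').Coprime (Nat.card Q) := by
      apply Nat.coprime_of_dvd
      intro r hr h1 h2
      rw [hcardH] at h1
      rw [hcardQ] at h2
      have h3 := mem_of_prime_dvd_mS hS' hr h1
      have h4 := mem_of_prime_dvd_mS (S := {q}) (by simpa using hqp) hr h2
      rw [Finset.mem_singleton] at h4
      exact hq (h4 ▸ h3)
    have hinf : H' ⊓ Q = ⊥ := by
      rw [eq_bot_iff]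
      intro x hx
      have h1 : orderOf x ∣ Nat.card H' := Subgroup.orderOf_dvd_natCard H' hx.1
      have h2 : orderOf x ∣ Nat.card Q := Subgroup.orderOf_dvd_natCard Q hx.2
      have h3 := Nat.Coprime.eq_one_of_dvd (hcop.coprime_dvd_left h1) h2
      exact Subgroup.mem_bot.mpr (orderOf_eq_one_iff.mp h3)
    rw [hinf, Subgroup.card_bot, mul_one] at h
    have h5 : Nat.card ((H' ⊔ Q : Subgroup X) : Set X) = Nat.card (H' ⊔ Q : Subgroup X) := rfl
    rw [h5] at h
    rw [h, hcardH, hcardQ, mS_insert q S' hq, mul_comm]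
    simp [mS]
  all_goals
    have hcm : ∀ (a : H') (b : Q), Commute (H'.subtype a) (Q.subtype b) :=
      fun a b => hcomm a a.2 b b.2
    set f : H' × Q →* X := MonoidHom.noncommCoprod H'.subtype Q.subtype hcm with hf
    have hrange : f.range = H' ⊔ Q := by
      rw [hf, MonoidHom.noncommCoprod_range, Subgroup.range_subtype, Subgroup.range_subtype]
    haveI := hgood.1
    haveI : Group.IsNilpotent Q := isNilpotent_of_isAb habQ
  · have h1 : Group.IsNilpotent f.range :=
      Group.nilpotent_of_surjective f.rangeRestrict f.rangeRestrict_surjective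
    rw [hrange] at h1
    exact h1
  · have h1 : ⁅H' ⊔ Q, H' ⊔ Q⁆ ≤ ⁅H', H'⁆ := by
      rw [Subgroup.commutator_le, ← hrange]
      rintro _ ⟨⟨a₁, b₁⟩, rfl⟩ _ ⟨⟨a₂, b₂⟩, rfl⟩
      have e1 : f (a₁, b₁) = (a₁ : X) * b₁ := rfl
      have e2 : f (a₂, b₂) = (a₂ : X) * b₂ := rfl
      rw [e1, e2]
      have hb₁a₂ : (b₁ : X) * a₂ = a₂ * b₁ := (hcomm a₂ a₂.2 b₁ b₁.2).symm
      have hb₂a₁ : (b₂ : X) * a₁ = a₁ * b₂ := (hcomm a₁ a₁.2 b₂ b₂.2).symm
      have hbb : (b₁ : X) * b₂ = b₂ * b₁ := habQ b₁ b₁.2 b₂ b₂.2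
      have h2 : ⁅(a₁ : X) * b₁, (a₂ : X) * b₂⁆ = ⁅(a₁ : X), (a₂ : X)⁆ := by
        have hxy : (a₁ : X) * b₁ * ((a₂ : X) * b₂) = a₁ * a₂ * (b₁ * b₂) := by
          calc (a₁ : X) * b₁ * ((a₂ : X) * b₂) = a₁ * ((b₁ : X) * a₂) * b₂ := by group
            _ = a₁ * (a₂ * b₁) * b₂ := by rw [hb₁a₂]
            _ = _ := by group
        have hyx : (a₂ : X) * b₂ * ((a₁ : X) * b₁) = a₂ * a₁ * (b₁ * b₂) := by
          calc (a₂ : X) * b₂ * ((a₁ : X) * b₁) = a₂ * ((b₂ : X) * a₁) * b₁ := by group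
            _ = a₂ * (a₁ * b₂) * b₁ := by rw [hb₂a₁]
            _ = a₂ * a₁ * ((b₂ : X) * b₁) := by group
            _ = _ := by rw [hbb]
        have h3 : ⁅(a₁ : X) * b₁, (a₂ : X) * b₂⁆ =
            ((a₁ : X) * b₁ * ((a₂ : X) * b₂)) * ((a₂ : X) * b₂ * ((a₁ : X) * b₁))⁻¹ := by
          rw [commutatorElement_def]
          group
        rw [h3, hxy, hyx, commutatorElement_def]
        group
      rw [h2]
      exact Subgroup.commutator_mem_commutator a₁.2 a₂.2
    exact (Subgroup.card_le_of_le h1).trans hgood.2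

end good

section cases

variable {X : Type u} [Group X] [Finite X]

theorem num_iN {q t m n₀ n₁ R b k : ℚ} (hq : 2 ≤ q) (ht : 0 ≤ t) (hm : 0 ≤ m)
    (hk : k ≤ n₀ * R + n₁ * b) (hn : n₀ + n₁ = t) (hn0 : 0 ≤ n₀) (hn1 : 0 ≤ n₁)
    (hb : b ≤ m / (q + 1)) (hR : R ≤ m / q + (m / (q + 1)) * (1 - 1 / q)) (hqn : q * n₀ ≤ t) :
    k ≤ (1 / q) * (t * m) := by
  have hq0 : 0 < q := by linarith
  have hq1 : 0 < q + 1 := by linarith
  have e0 : n₀ * R + n₁ * b ≤ n₀ * (m / q + (m / (q + 1)) * (1 - 1 / q)) + n₁ * (m / (q + 1)) :=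
    add_le_add (mul_le_mul_of_nonneg_left hR hn0) (mul_le_mul_of_nonneg_left hb hn1)
  have e1 : n₀ * (m / q + (m / (q + 1)) * (1 - 1 / q)) + n₁ * (m / (q + 1)) =
      (t + n₀) * (m / (q + 1)) := by
    rw [← hn]
    field_simp
    ring
  have e2 : n₀ ≤ t / q := by
    rw [le_div_iff₀ hq0, mul_comm]
    exact hqn
  have e3 : 0 ≤ m / (q + 1) := by positivity
  have e4 : (t + n₀) * (m / (q + 1)) ≤ (t + t / q) * (m / (q + 1)) :=
    mul_le_mul_of_nonneg_right (by linarith) e3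
  have e5 : (t + t / q) * (m / (q + 1)) = (1 / q) * (t * m) := by
    field_simp
  linarith

/-- Case `N(Q) ≤ C(Q)`, nilpotent version. -/
theorem case_iN {S' : Finset ℕ} (hS' : ∀ r ∈ S', r.Prime) {q : ℕ} [Fact q.Prime] (hq : q ∉ S')
    {H' : Subgroup X} (hnil : Group.IsNilpotent H') (hcardH : Nat.card H' = mS S' X)
    (hQab : ∀ Q : Sylow q X, IsAb (Q : Subgroup X))
    {K : Subgroup X} [K.Normal] (hKq : ¬ q ∣ Nat.card K)
    (hKq' : ∀ x : X, ¬ q ∣ orderOf x → x ∈ K)
    (hnc : ∀ Q : Sylow q X, ¬ ∀ a ∈ H', ∀ b ∈ (Q : Subgroup X), a * b = b * a) :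
    (kS (insert q S') X : ℚ) ≤ (1 / q) * mS (insert q S') X := by
  classical
  have hqp : q.Prime := Fact.out
  set m' := mS S' X with hm'
  have hqm : ¬ q ∣ Nat.card H' := by
    rw [hcardH]
    exact not_dvd_mS hS' hq hqp X
  have hH'K : H' ≤ K := by
    intro x hx
    apply hKq'
    intro hd
    have h1 : orderOf x ∣ Nat.card H' := Subgroup.orderOf_dvd_natCard H' hx
    exact hqm (hd.trans h1)
  obtain ⟨Q₁, hQ₁⟩ := exists_sylow_le_normalizerN hS' hKq hH'K hnil hcardH
  have hnc1 := hnc Q₁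
  push Not at hnc1
  obtain ⟨a, ha, v, hv, hav⟩ := hnc1
  have hvN : v ∈ Subgroup.normalizer (H' : Set X) := hQ₁ hv
  have hvA : ∀ x ∈ H', v * x * v⁻¹ ∈ H' := fun x hx =>
    (Subgroup.mem_normalizer_iff.mp hvN x).mp hx
  obtain ⟨kv, hkv⟩ := orderOf_of_mem_pgroup Q₁.isPGroup' hv
  obtain ⟨Yv, -, hYvcov, -, hYvF, hYv2⟩ := exists_reps_subgroup H' v hvA q (by
    intro d hd h1
    rw [hkv] at hd
    exact le_of_dvd_ne_one_of_pow hqp hd h1)
  set D : Subgroup X := H' ⊓ Subgroup.centralizer ({v} : Set X) with hD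
  have hDcard : (q + 1) * Nat.card D ≤ m' := by
    rw [← hcardH]
    exact succ_mul_card_le hkv hvA hqm ⟨a, ha, fun h => hav h.symm⟩
  have hq0 : (0 : ℚ) < q := by exact_mod_cast hqp.pos
  have hq1 : (0 : ℚ) < (q : ℚ) + 1 := by linarith
  have hR0 := card_reps_le (a := q) (n := Nat.card H') (f := Nat.card D) hqp.pos hYvF hYv2
  have hR : (Yv.card : ℚ) ≤ (m' : ℚ) / q + ((m' : ℚ) / ((q : ℚ) + 1)) * (1 - 1 / q) := by
    refine hR0.trans ?_
    rw [hcardH]
    apply reps_num_le (by exact_mod_cast hqp.one_lt.le) hq1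
    exact_mod_cast hDcard
  -- the sum
  have hsum := kS_le_sum (insert q S') {q} S' (fs (Q₁ : Subgroup X)) (dec_q q S') (by
      intro u hu
      obtain ⟨g, hg⟩ := exists_conj_mem_sylow Q₁ hu
      exact ⟨_, mem_fs.mpr hg, isConj_iff.mpr ⟨g, rfl⟩⟩)
  let P : X → Prop := fun y => ∀ a ∈ H', a * y = y * a
  have hterm1 : ∀ y ∈ fs (Q₁ : Subgroup X), P y →
      (kS S' (Subgroup.centralizer ({y} : Set X)) : ℚ) ≤ Yv.card := by
    intro y hy hPy
    have hyQ := mem_fs.mp hy
    have hH'C : H' ≤ Subgroup.centralizer ({y} : Set X) := by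
      intro x hx
      exact Subgroup.mem_centralizer_singleton_iff.mpr (hPy x hx)
    have hvC : v ∈ Subgroup.centralizer ({y} : Set X) :=
      Subgroup.mem_centralizer_singleton_iff.mpr (hQab Q₁ v hv y hyQ)
    have := kS_subgroup_le (Subgroup.centralizer ({y} : Set X)) S' Yv (by
      intro x hx hxS
      obtain ⟨c, hc, hcx⟩ := exists_conj_mem_subN hS' hH'C hnil
        (card_eq_mS_of_le hS' hH'C hcardH) hx hxS
      obtain ⟨i, hi⟩ := hYvcov _ hcx
      refine ⟨_, hi, v ^ i * c, Subgroup.mul_mem _ (Subgroup.pow_mem _ hvC i) hc, ?_⟩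
      group)
    exact_mod_cast this
  have hterm2 : ∀ y ∈ fs (Q₁ : Subgroup X), ¬ P y →
      (kS S' (Subgroup.centralizer ({y} : Set X)) : ℚ) ≤ (m' : ℚ) / ((q : ℚ) + 1) := by
    intro y hy hPy
    have hyQ := mem_fs.mp hy
    obtain ⟨n, hn⟩ := orderOf_of_mem_pgroup Q₁.isPGroup' hyQ
    have h1 := mS_centralizer_dvdN hS' hq hKq hKq' hH'K hnil hcardH hn (hQ₁ hyQ)
    have h2 := kS_le_mS S' (Subgroup.centralizer ({y} : Set X)) hS'
    have h3 := Nat.le_of_dvd Nat.card_pos h1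
    have h4 : (q + 1) * Nat.card (H' ⊓ Subgroup.centralizer ({y} : Set X) : Subgroup X) ≤ m' := by
      rw [← hcardH]
      apply succ_mul_card_le hn
        (fun x hx => (Subgroup.mem_normalizer_iff.mp (hQ₁ hyQ) x).mp hx) hqm
      by_contra hcon
      push Not at hcon
      apply hPy
      intro a ha
      exact (hcon a ha).symm
    rw [le_div_iff₀ hq1, mul_comm]
    have h7 : (q + 1) * kS S' (Subgroup.centralizer ({y} : Set X)) ≤ m' :=
      (Nat.mul_le_mul_left _ (h2.trans h3)).trans h4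
    exact_mod_cast h7
  have hs2 := sum_two_le (Y := fs (Q₁ : Subgroup X)) P
    (fun y => (kS S' (Subgroup.centralizer ({y} : Set X)) : ℚ)) (Yv.card : ℚ)
    ((m' : ℚ) / ((q : ℚ) + 1)) hterm1 hterm2
  set n₀ := ((fs (Q₁ : Subgroup X)).filter P).card with hn₀
  set n₁ := ((fs (Q₁ : Subgroup X)).filter (fun x => ¬ P x)).card with hn₁
  have hn01 : n₀ + n₁ = Nat.card (Q₁ : Subgroup X) := by
    rw [hn₀, hn₁, Finset.card_filter_add_card_filter_not, card_fs]
  -- `n₀` is small
  have hD₁ : ((fs (Q₁ : Subgroup X)).filter P) =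
      fs ((Q₁ : Subgroup X) ⊓ Subgroup.centralizer (H' : Set X)) := by
    ext x
    simp only [Finset.mem_filter, mem_fs, Subgroup.mem_inf, Subgroup.mem_centralizer_iff, P]
    exact Iff.rfl
  have hn0le : q * n₀ ≤ Nat.card (Q₁ : Subgroup X) := by
    rw [hn₀, hD₁, card_fs]
    apply mul_card_le_of_lt hqp Q₁.isPGroup' inf_le_left
    intro h
    have h2 : v ∈ ((Q₁ : Subgroup X) ⊓ Subgroup.centralizer (H' : Set X) : Subgroup X) := by
      rw [h]; exact hv
    exact hav (Subgroup.mem_centralizer_iff.mp h2.2 a ha)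
  have hk : (kS (insert q S') X : ℚ) ≤
      (n₀ : ℚ) * Yv.card + (n₁ : ℚ) * ((m' : ℚ) / ((q : ℚ) + 1)) := by
    refine le_trans ?_ hs2
    exact_mod_cast hsum
  have ht : (n₀ : ℚ) + n₁ = (Nat.card (Q₁ : Subgroup X) : ℚ) := by exact_mod_cast hn01
  have hfinal := num_iN (q := q) (t := (Nat.card (Q₁ : Subgroup X) : ℚ)) (m := m')
    (n₀ := n₀) (n₁ := n₁) (R := Yv.card) (b := (m' : ℚ) / ((q : ℚ) + 1))
    (by exact_mod_cast hqp.two_le) (by positivity) (by positivity) hk ht
    (by positivity) (by positivity) le_rfl hR (by exact_mod_cast hn0le)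
  rw [mS_insert q S' hq]
  rw [Sylow.card_eq_multiplicity] at hfinal
  push_cast
  push_cast at hfinal
  exact hfinal

theorem num_iiN {p q : ℚ} (hp : 2 ≤ p) (hpq : p + 1 ≤ q) :
    1 / q + (1 / p ^ 2) * (1 - 1 / q) ≤ 1 / p := by
  have hp0 : 0 < p := by linarith
  have hp1 : 0 < p + 1 := by linarith
  have h1 : 1 / q ≤ 1 / (p + 1) := one_div_le_one_div_of_le hp1 hpq
  have h2 : 1 / p ^ 2 ≤ 1 := by
    rw [div_le_one (by positivity)]
    nlinarith
  have h3 : (1 / q + (1 / p ^ 2) * (1 - 1 / q)) = 1 / p ^ 2 + (1 / q) * (1 - 1 / p ^ 2) := by ring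
  rw [h3]
  have h4 := mul_le_mul_of_nonneg_right h1 (sub_nonneg.mpr h2)
  have h5 : 1 / p ^ 2 + 1 / (p + 1) * (1 - 1 / p ^ 2) = 1 / p := by
    field_simp
    ring
  linarith

theorem num_iiiN {p q t m z f₁ n₁ R₃ R₂ S₁ S₂ k a f : ℚ} (hp : 2 ≤ p) (hpq : p + 1 ≤ q)
    (ht : 0 ≤ t) (hm : 0 ≤ m)
    (hk : k ≤ S₁ + S₂) (hS₁ : S₁ ≤ f₁ * R₃ + n₁ * m) (hS₂ : S₂ ≤ R₂ * (m / p))
    (hn : 2 * n₁ + f₁ ≤ z) (hf₁ : 0 ≤ f₁) (hn₁ : 0 ≤ n₁)
    (hR₃ : R₃ ≤ m / 2 + (m / p) * (1 - 1 / 2)) (hR₂ : 2 * R₂ ≤ a + f) (ha : a + z ≤ t)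
    (hf : q * f ≤ t) (hz : q * z ≤ t) :
    k ≤ (1 / p) * (t * m) := by
  have hp0 : 0 < p := by linarith
  have hq0 : 0 < q := by linarith
  set κ : ℚ := (p + 1) / (2 * p) with hκ
  have hκ1 : 1 / 2 ≤ κ := by
    rw [hκ, div_le_div_iff₀ (by norm_num) (by positivity)]
    linarith
  have hR₃' : R₃ ≤ m * κ := by
    refine hR₃.trans (le_of_eq ?_)
    rw [hκ]
    field_simp
    ring
  have hmκ : 0 ≤ m * κ := mul_nonneg hm (by linarith)
  have h1 : S₁ ≤ z * (m * κ) := by
    have h2 : f₁ * R₃ ≤ f₁ * (m * κ) := mul_le_mul_of_nonneg_left hR₃' hf₁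
    have h3 : n₁ * m ≤ 2 * n₁ * (m * κ) := by
      have : m ≤ 2 * (m * κ) := by nlinarith
      nlinarith
    have h4 : (2 * n₁ + f₁) * (m * κ) ≤ z * (m * κ) := mul_le_mul_of_nonneg_right hn hmκ
    nlinarith
  have hz' : z ≤ t / q := by
    rw [le_div_iff₀ hq0, mul_comm]
    exact hz
  have hf' : f ≤ t / q := by
    rw [le_div_iff₀ hq0, mul_comm]
    exact hf
  have hmp : 0 ≤ m / (2 * p) := by positivity
  have h6 : S₂ ≤ (t - z + t / q) * (m / (2 * p)) := by
    refine hS₂.trans ?_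
    have h7 : R₂ * (m / p) = (2 * R₂) * (m / (2 * p)) := by
      field_simp
    rw [h7]
    apply mul_le_mul_of_nonneg_right _ hmp
    linarith
  have h8 : z * (m * κ) = z * (p + 1) * (m / (2 * p)) := by
    rw [hκ]
    field_simp
  -- total: `(m / 2p) (z p + t + t/q) ≤ (m / 2p) 2 t`
  have h9 : (t - z + t / q) + z * (p + 1) ≤ 2 * t := by
    have h10 : z * p ≤ (t / q) * p := mul_le_mul_of_nonneg_right hz' hp0.le
    have h11 : (t / q) * (p + 1) ≤ t := by
      rw [div_mul_eq_mul_div, div_le_iff₀ hq0]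
      exact mul_le_mul_of_nonneg_left hpq ht
    nlinarith
  have h12 := mul_le_mul_of_nonneg_right h9 hmp
  have h13 : 2 * t * (m / (2 * p)) = (1 / p) * (t * m) := by
    field_simp
  have h14 : S₁ ≤ z * (p + 1) * (m / (2 * p)) := by
    rw [← h8]
    exact h1
  nlinarith

/-- Case where both `N(Q)/C(Q)` and `N(H')/C(H')` are nontrivial, nilpotent version. -/
theorem case_iiiN {S' : Finset ℕ} (hS' : ∀ r ∈ S', r.Prime) {p : ℕ} (hp : 2 ≤ p)
    (hpS : ∀ r ∈ S', p ≤ r) {q : ℕ} [Fact q.Prime] (hq : q ∉ S') (hpq : p + 1 ≤ q)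
    {H' : Subgroup X} (hnil : Group.IsNilpotent H') (hcardH : Nat.card H' = mS S' X)
    (hQab : ∀ Q : Sylow q X, IsAb (Q : Subgroup X))
    (hWQ : ∀ Q : Sylow q X, ¬ Subgroup.normalizer ((Q : Subgroup X) : Set X) ≤
      Subgroup.centralizer ((Q : Subgroup X) : Set X))
    (hW' : ¬ Subgroup.normalizer (H' : Set X) ≤ Subgroup.centralizer (H' : Set X))
    (hnc : ∀ Q : Sylow q X, ¬ ∀ a ∈ H', ∀ b ∈ (Q : Subgroup X), a * b = b * a)
    (hterm : ∀ Z : Subgroup X, (¬ ∃ E : Subgroup X, E ≤ Z ∧ Nat.card E = mS S' X) →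
      (kS S' Z : ℚ) ≤ (1 / p) * mS S' X) :
    (kS (insert q S') X : ℚ) ≤ (1 / p) * mS (insert q S') X := by
  classical
  have hqp : q.Prime := Fact.out
  have hS1 : ∀ r ∈ ({q} : Finset ℕ), r.Prime := by simpa using hqp
  set m' := mS S' X with hm'
  have hm'pos : 0 < m' := mS_pos S' hS' X
  -- `Q₀`
  set Cs := Subgroup.centralizer (H' : Set X) with hCs
  obtain ⟨P₀⟩ : Nonempty (Sylow q Cs) := inferInstance
  set Q₀ : Subgroup X := (P₀ : Subgroup Cs).map Cs.subtype with hQ₀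
  have hQ₀Cs : Q₀ ≤ Cs := by
    rintro _ ⟨x, -, rfl⟩
    exact x.2
  have hQ₀p : IsPGroup q Q₀ := P₀.isPGroup'.map _
  have hQ₀card : Nat.card Q₀ = mS {q} Cs := by
    rw [← card_sylow_eq_mS P₀]
    exact (Nat.card_congr (Subgroup.equivMapOfInjective (P₀ : Subgroup Cs) Cs.subtype
      Subtype.val_injective).toEquiv).symm
  obtain ⟨Q, hQ₀Q⟩ := hQ₀p.exists_le_sylow
  set t := Nat.card (Q : Subgroup X) with ht
  have hQ₀t : q * Nat.card Q₀ ≤ t := by
    apply mul_card_le_of_lt hqp Q.isPGroup' hQ₀Q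
    intro h
    apply hnc Q
    intro a ha b hb
    have hbC : b ∈ Cs := hQ₀Cs (h ▸ hb)
    exact Subgroup.mem_centralizer_iff.mp hbC a ha
  have hQ₀ab : IsAb Q₀ := fun a ha b hb => hQab Q a (hQ₀Q ha) b (hQ₀Q hb)
  -- `v`
  have h1 := hWQ Q
  obtain ⟨v, hvN, hvC⟩ := Set.not_subset.mp h1
  have hvQ : ∀ x ∈ (Q : Subgroup X), v * x * v⁻¹ ∈ (Q : Subgroup X) := fun x hx =>
    (Subgroup.mem_normalizer_iff.mp hvN x).mp hx
  have h2le : ∀ {w : X} (d : ℕ), d ∣ orderOf w → d ≠ 1 → 2 ≤ d := by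
    intro w d hd h1
    have hd0 : 0 < d := Nat.pos_of_dvd_of_pos hd (orderOf_pos w)
    omega
  -- the invariant part of `Q` not conjugate into `Q₀`
  let A : Finset X := (fs (Q : Subgroup X)).filter (fun y => ¬ ∃ g : X, g * y * g⁻¹ ∈ Q₀)
  have hAcl : ∀ x ∈ A, v * x * v⁻¹ ∈ A := by
    intro x hx
    obtain ⟨hx1, hx2⟩ := Finset.mem_filter.mp hx
    refine Finset.mem_filter.mpr ⟨mem_fs.mpr (hvQ x (mem_fs.mp hx1)), ?_⟩
    rintro ⟨g, hg⟩
    apply hx2
    refine ⟨g * v, ?_⟩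
    have : g * v * x * (g * v)⁻¹ = g * (v * x * v⁻¹) * g⁻¹ := by group
    rw [this]
    exact hg
  obtain ⟨Y₂, hY₂A, hFY, hY₂cov, hY₂2⟩ := exists_reps A v hAcl 2 (fun d => h2le d)
  set F := A.filter (fun x => v * x = x * v) with hF
  set D₂ : Subgroup X := (Q : Subgroup X) ⊓ Subgroup.centralizer ({v} : Set X) with hD₂
  have hD₂card : q * Nat.card D₂ ≤ t := by
    apply mul_card_le_of_lt hqp Q.isPGroup' (K := D₂) inf_le_left
    intro h
    apply hvC
    rw [SetLike.mem_coe, Subgroup.mem_centralizer_iff]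
    intro b hb
    have h2 : b ∈ D₂ := by rw [h]; exact hb
    exact Subgroup.mem_centralizer_singleton_iff.mp h2.2
  have hFD : F.card ≤ Nat.card D₂ := by
    rw [← card_fs D₂]
    apply Finset.card_le_card
    intro x hx
    obtain ⟨hx1, hx2⟩ := Finset.mem_filter.mp hx
    refine mem_fs.mpr ⟨mem_fs.mp (Finset.mem_filter.mp hx1).1, ?_⟩
    exact Subgroup.mem_centralizer_singleton_iff.mpr hx2.symm
  have hAQ₀ : A.card + Nat.card Q₀ ≤ t := by
    rw [← card_fs Q₀, ht, ← card_fs (Q : Subgroup X)]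
    have hdisj : Disjoint A (fs Q₀) := by
      rw [Finset.disjoint_left]
      intro x hx hx'
      apply (Finset.mem_filter.mp hx).2
      exact ⟨1, by simpa using mem_fs.mp hx'⟩
    rw [← Finset.card_union_of_disjoint hdisj]
    apply Finset.card_le_card
    apply Finset.union_subset (Finset.filter_subset _ _)
    intro x hx
    exact mem_fs.mpr (hQ₀Q (mem_fs.mp hx))
  have hY₂card : 2 * Y₂.card ≤ A.card + F.card := by
    have h3 : (Y₂ \ F).card + F.card = Y₂.card := Finset.card_sdiff_add_card_eq_card hFY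
    have h4 : (A \ F).card + F.card = A.card :=
      Finset.card_sdiff_add_card_eq_card (Finset.filter_subset _ _)
    omega
  have hq0 : (0 : ℚ) < q := by exact_mod_cast hqp.pos
  have hp0 : (0 : ℚ) < p := by exact_mod_cast (by omega : 0 < p)
  -- `g` and `v'`
  obtain ⟨g, hgN, hgC⟩ := Set.not_subset.mp hW'
  have hgCs : ∀ x ∈ Cs, g * x * g⁻¹ ∈ Cs := by
    intro x hx
    rw [hCs, Subgroup.mem_centralizer_iff]
    intro a ha
    have h3 : g⁻¹ * a * g ∈ H' := by
      have := (Subgroup.mem_normalizer_iff.mp (Subgroup.inv_mem _ hgN) a).mp ha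
      simpa using this
    have h4 := Subgroup.mem_centralizer_iff.mp hx _ h3
    calc a * (g * x * g⁻¹) = g * ((g⁻¹ * a * g) * x) * g⁻¹ := by group
      _ = g * (x * (g⁻¹ * a * g)) * g⁻¹ := by rw [h4]
      _ = _ := by group
  set Q₀' : Subgroup X := Q₀.map (MulAut.conj g).toMonoidHom with hQ₀'
  have hconj : ∀ a, (MulAut.conj g).toMonoidHom a = g * a * g⁻¹ := fun a => rfl
  have hQ₀'Cs : Q₀' ≤ Cs := by
    rintro _ ⟨x, hx, rfl⟩
    rw [hconj]
    exact hgCs x (hQ₀Cs hx)
  have hQ₀'card : Nat.card Q₀' = mS {q} Cs := by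
    rw [← hQ₀card]
    exact (Nat.card_congr (Subgroup.equivMapOfInjective Q₀ _
      (MulAut.conj g).injective).toEquiv).symm
  obtain ⟨c₁, hc₁, hiff⟩ := exists_conj_sub hS1 hQ₀Cs hQ₀'Cs hQ₀ab hQ₀card hQ₀'card
  set v' := c₁⁻¹ * g with hv'
  have hv'eq : ∀ x, v' * x * v'⁻¹ = c₁⁻¹ * (g * x * g⁻¹) * c₁ := by
    intro x
    rw [hv']
    group
  have hv'Q₀ : ∀ x ∈ Q₀, v' * x * v'⁻¹ ∈ Q₀ := by
    intro x hx
    rw [hv'eq]
    have h3 : g * x * g⁻¹ ∈ Q₀' := ⟨x, hx, rfl⟩
    exact (hiff _ (hQ₀'Cs h3)).mp h3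
  have hv'H : ∀ x ∈ H', v' * x * v'⁻¹ = g * x * g⁻¹ := by
    intro x hx
    rw [hv'eq]
    have h3 : g * x * g⁻¹ ∈ H' := (Subgroup.mem_normalizer_iff.mp hgN x).mp hx
    have h4 := Subgroup.mem_centralizer_iff.mp hc₁ _ h3
    calc c₁⁻¹ * (g * x * g⁻¹) * c₁ = c₁⁻¹ * ((g * x * g⁻¹) * c₁) := by group
      _ = c₁⁻¹ * (c₁ * (g * x * g⁻¹)) := by rw [h4]
      _ = _ := by group
  have hv'H' : ∀ x ∈ H', v' * x * v'⁻¹ ∈ H' := by
    intro x hx
    rw [hv'H x hx]
    exact (Subgroup.mem_normalizer_iff.mp hgN x).mp hx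
  -- representatives of `v'` on `H'` and on `Q₀`
  obtain ⟨Y₃, -, hY₃cov, -, hY₃F, hY₃2⟩ := exists_reps_subgroup H' v' hv'H' 2 (fun d => h2le d)
  obtain ⟨Y₁, hY₁Q, hY₁cov, -, hY₁F, hY₁2⟩ := exists_reps_subgroup Q₀ v' hv'Q₀ 2 (fun d => h2le d)
  set D₃ : Subgroup X := H' ⊓ Subgroup.centralizer ({v'} : Set X) with hD₃
  have hD₃card : p * Nat.card D₃ ≤ m' := by
    apply mul_le_mS_of_dvd_of_ne hS' hpS
    · have := Subgroup.card_dvd_of_le (inf_le_left : D₃ ≤ H')
      rwa [hcardH] at this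
    · intro h
      have h2 : D₃ = H' := Subgroup.eq_of_le_of_card_ge inf_le_left (by rw [h, hcardH])
      apply hgC
      rw [SetLike.mem_coe, Subgroup.mem_centralizer_iff]
      intro a ha
      have h3 : a ∈ D₃ := by rw [h2]; exact ha
      have h4 : v' * a = a * v' := (Subgroup.mem_centralizer_singleton_iff.mp h3.2).symm
      have h5 : g * a * g⁻¹ = a := by
        rw [← hv'H a ha, h4]
        group
      calc a * g = (g * a * g⁻¹) * g := by rw [h5]
        _ = g * a := by group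
  have hR₃ : (Y₃.card : ℚ) ≤ (m' : ℚ) / 2 + ((m' : ℚ) / p) * (1 - 1 / 2) := by
    have h3 := card_reps_le (a := 2) (n := Nat.card H') (f := Nat.card D₃) (by norm_num) hY₃F hY₃2
    rw [hcardH] at h3
    refine h3.trans ?_
    have h4 := reps_num_le (n := (m' : ℚ)) (f := (Nat.card D₃ : ℚ)) (a := 2) (b := p)
      (by norm_num) hp0 (by exact_mod_cast hD₃card)
    exact_mod_cast h4
  -- the covering set
  have hsum := kS_le_sum (insert q S') {q} S' (Y₁ ∪ Y₂) (dec_q q S') (by
    intro u hu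
    obtain ⟨g₂, hg₂⟩ := exists_conj_mem_sylow Q hu
    by_cases hex : ∃ g : X, g * (g₂ * u * g₂⁻¹) * g⁻¹ ∈ Q₀
    · obtain ⟨g₃, hg₃⟩ := hex
      obtain ⟨j, hj⟩ := hY₁cov _ hg₃
      refine ⟨_, Finset.mem_union_left _ hj, isConj_iff.mpr ⟨v' ^ j * (g₃ * g₂), by group⟩⟩
    · have hmem : g₂ * u * g₂⁻¹ ∈ A := Finset.mem_filter.mpr ⟨mem_fs.mpr hg₂, hex⟩
      obtain ⟨i, hi⟩ := hY₂cov _ hmem
      refine ⟨_, Finset.mem_union_right _ hi, isConj_iff.mpr ⟨v ^ i * g₂, by group⟩⟩)
  -- terms on `Y₁`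
  let f : X → ℚ := fun y => (kS S' (Subgroup.centralizer ({y} : Set X)) : ℚ)
  have hf0 : ∀ y, 0 ≤ f y := fun y => by positivity
  have hterm1 : ∀ y ∈ Y₁, v' * y = y * v' → f y ≤ Y₃.card := by
    intro y hy hcomm
    have hyQ₀ := hY₁Q y hy
    have hH'C : H' ≤ Subgroup.centralizer ({y} : Set X) := by
      intro x hx
      apply Subgroup.mem_centralizer_singleton_iff.mpr
      exact Subgroup.mem_centralizer_iff.mp (hQ₀Cs hyQ₀) x hx
    have hv'C : v' ∈ Subgroup.centralizer ({y} : Set X) :=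
      Subgroup.mem_centralizer_singleton_iff.mpr hcomm
    have := kS_subgroup_le (Subgroup.centralizer ({y} : Set X)) S' Y₃ (by
      intro x hx hxS
      obtain ⟨c, hc, hcx⟩ := exists_conj_mem_subN hS' hH'C hnil
        (card_eq_mS_of_le hS' hH'C hcardH) hx hxS
      obtain ⟨i, hi⟩ := hY₃cov _ hcx
      refine ⟨_, hi, v' ^ i * c, Subgroup.mul_mem _ (Subgroup.pow_mem _ hv'C i) hc, ?_⟩
      group)
    show (kS S' (Subgroup.centralizer ({y} : Set X)) : ℚ) ≤ Y₃.card
    exact_mod_cast this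
  have hterm2 : ∀ y ∈ Y₁, ¬ v' * y = y * v' → f y ≤ m' := by
    intro y _ _
    have h3 := kS_le_mS S' (Subgroup.centralizer ({y} : Set X)) hS'
    have h4 := mS_le_of_sub S' hS' (Subgroup.centralizer ({y} : Set X))
    show (kS S' (Subgroup.centralizer ({y} : Set X)) : ℚ) ≤ m'
    exact_mod_cast h3.trans h4
  have hs1 := sum_two_le (Y := Y₁) (fun y => v' * y = y * v') f (Y₃.card : ℚ) (m' : ℚ)
    hterm1 hterm2
  -- terms on `Y₂`
  have hterm3 : ∀ y ∈ Y₂, f y ≤ (1 / p) * m' := by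
    intro y hy
    have hyA := Finset.mem_filter.mp (hY₂A hy)
    have hnot := hyA.2
    apply hterm
    rintro ⟨E, hEC, hEcard⟩
    apply hnot
    obtain ⟨g₁, hg₁⟩ := exists_conj_of_hallN hS' hnil hcardH hEcard
    -- `u = g₁⁻¹ y g₁` centralizes `H'`
    set u := g₁⁻¹ * y * g₁ with hu
    have huC : u ∈ Cs := by
      rw [hCs, Subgroup.mem_centralizer_iff]
      intro a ha
      have h3 : g₁ * a * g₁⁻¹ ∈ E := (hg₁ _).mpr (by
        have h0 : g₁⁻¹ * (g₁ * a * g₁⁻¹) * g₁ = a := by group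
        rw [h0]
        exact ha)
      have h4 := Subgroup.mem_centralizer_singleton_iff.mp (hEC h3)
      have h5 : a * u = g₁⁻¹ * ((g₁ * a * g₁⁻¹) * y) * g₁ := by
        rw [hu]
        group
      have h6 : u * a = g₁⁻¹ * (y * (g₁ * a * g₁⁻¹)) * g₁ := by
        rw [hu]
        group
      rw [h5, h6, h4]
    have hyQ : y ∈ (Q : Subgroup X) := mem_fs.mp hyA.1
    obtain ⟨n, hn⟩ := orderOf_of_mem_pgroup Q.isPGroup' hyQ
    have hus : IsSElt {q} (⟨u, huC⟩ : Cs) := by
      apply isSElt_coe.mpr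
      have h7 : IsSElt {q} y := by
        intro r hr hd
        rw [hn] at hd
        have := (Nat.prime_dvd_prime_iff_eq hr hqp).mp (hr.dvd_of_dvd_pow hd)
        simp [this]
      have := isSElt_conj g₁⁻¹ h7
      simpa [hu] using this
    obtain ⟨c, hc⟩ := exists_conj_mem_sylow P₀ hus
    refine ⟨(c : X) * g₁⁻¹, ?_⟩
    have h8 : (c : X) * g₁⁻¹ * y * ((c : X) * g₁⁻¹)⁻¹ = (c : X) * u * (c : X)⁻¹ := by
      rw [hu]
      group
    rw [h8]
    exact ⟨_, hc, rfl⟩
  -- assembling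
  have hs3 : ∑ y ∈ Y₂, f y ≤ (Y₂.card : ℚ) * ((m' : ℚ) / p) := by
    calc ∑ y ∈ Y₂, f y ≤ ∑ _y ∈ Y₂, (1 / (p : ℚ)) * m' := Finset.sum_le_sum hterm3
      _ = (Y₂.card : ℚ) * ((m' : ℚ) / p) := by
        rw [Finset.sum_const, nsmul_eq_mul]
        ring
  have hsum2 : ∑ y ∈ Y₁ ∪ Y₂, f y ≤ ∑ y ∈ Y₁, f y + ∑ y ∈ Y₂, f y := by
    rw [← Finset.sum_union_inter]
    have : 0 ≤ ∑ y ∈ Y₁ ∩ Y₂, f y := Finset.sum_nonneg fun y _ => hf0 y
    linarith
  have hk : (kS (insert q S') X : ℚ) ≤ ∑ y ∈ Y₁, f y + ∑ y ∈ Y₂, f y := by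
    refine le_trans ?_ hsum2
    have h : (kS (insert q S') X : ℚ) ≤
        ∑ y ∈ Y₁ ∪ Y₂, (kS S' (Subgroup.centralizer ({y} : Set X)) : ℚ) := by
      exact_mod_cast hsum
    exact h
  have hfinal := num_iiiN (p := p) (q := q) (t := (t : ℚ)) (m := m')
    (z := (Nat.card Q₀ : ℚ))
    (f₁ := (Nat.card (Q₀ ⊓ Subgroup.centralizer ({v'} : Set X) : Subgroup X) : ℚ))
    (n₁ := ((Y₁.filter (fun x => ¬ v' * x = x * v')).card : ℚ))
    (R₃ := (Y₃.card : ℚ)) (R₂ := (Y₂.card : ℚ)) (a := (A.card : ℚ)) (f := (Nat.card D₂ : ℚ))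
    (by exact_mod_cast hp) (by exact_mod_cast hpq) (by positivity) (by positivity)
    hk (by rw [← hY₁F]; exact hs1) hs3 (by exact_mod_cast hY₁2) (by positivity) (by positivity)
    hR₃ (by
      have : (2 * Y₂.card : ℕ) ≤ A.card + Nat.card D₂ := hY₂card.trans (by omega)
      exact_mod_cast this) (by exact_mod_cast hAQ₀) (by exact_mod_cast hD₂card)
    (by exact_mod_cast hQ₀t)
  rw [mS_insert q S' hq, ← hm']
  have h1' : q ^ (Nat.card X).factorization q = t := by
    rw [ht, Sylow.card_eq_multiplicity]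
  rw [h1']
  push_cast
  exact hfinal

end cases

section main

open scoped commutatorElement

theorem cp_le_inv {p q : ℕ} (hp : 2 ≤ p) (hpq : p + 1 ≤ q) : cp q ≤ 1 / (p : ℚ) := by
  have h1 : (2 : ℚ) ≤ p := by exact_mod_cast hp
  have h2 : (p : ℚ) + 1 ≤ q := by exact_mod_cast hpq
  have h0 : (0 : ℚ) < p := by linarith
  have h3 : (0 : ℚ) < q := by linarith
  unfold cp
  rw [div_le_div_iff₀ (by positivity) h0]
  have h4 : (p : ℚ) ≤ q - 1 := by linarith
  have h5 : (0 : ℚ) ≤ (q : ℚ) ^ 2 + q - 1 := by nlinarith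
  have h6 := mul_le_mul_of_nonneg_left h4 h5
  nlinarith

theorem card_commutator_eq {X : Type u} [Group X] (H : Subgroup X) :
    Nat.card (commutator H) = Nat.card (⁅H, H⁆ : Subgroup X) := by
  rw [← Subgroup.map_subtype_commutator]
  exact Nat.card_congr (Subgroup.equivMapOfInjective (commutator H) H.subtype
    Subtype.val_injective).toEquiv

/-- Representatives of the classes of a subgroup. -/
theorem exists_reps_of_le {X : Type u} [Group X] [Finite X] {Q : Subgroup X} {c : ℚ}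
    (h1 : (Nat.card (ConjClasses Q) : ℚ) ≤ c) :
    ∃ Y : Finset X, (Y.card : ℚ) ≤ c ∧ ∀ u ∈ Q, ∃ y ∈ Y, IsConj u y := by
  classical
  haveI : Fintype (ConjClasses Q) := Fintype.ofFinite _
  refine ⟨Finset.univ.image (fun C : ConjClasses Q => ((C.out : Q) : X)), ?_, ?_⟩
  · have h2 : (Finset.univ.image (fun C : ConjClasses Q => ((C.out : Q) : X))).card ≤
        Nat.card (ConjClasses Q) := by
      rw [Nat.card_eq_fintype_card]
      exact Finset.card_image_le
    calc ((Finset.univ.image (fun C : ConjClasses Q => ((C.out : Q) : X))).card : ℚ)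
        ≤ Nat.card (ConjClasses Q) := by exact_mod_cast h2
      _ ≤ _ := h1
  · intro u hu
    refine ⟨_, Finset.mem_image.mpr ⟨ConjClasses.mk ⟨u, hu⟩, Finset.mem_univ _, rfl⟩, ?_⟩
    have h3 : IsConj (⟨u, hu⟩ : Q) (ConjClasses.mk (⟨u, hu⟩ : Q)).out :=
      ConjClasses.mk_eq_mk_iff_isConj.mp (Quotient.out_eq (ConjClasses.mk (⟨u, hu⟩ : Q))).symm
    obtain ⟨c, hc⟩ := isConj_iff.mp h3
    rw [isConj_iff]
    refine ⟨c, ?_⟩
    have := congrArg Subtype.val hc
    simpa using this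

/-- The term bound when `Z` has no good subgroup of order `m'`. -/
theorem term_le_inv {X : Type u} [Group X] [Finite X] {S' : Finset ℕ} (hS' : ∀ r ∈ S', r.Prime)
    {p : ℕ} (hp : 2 ≤ p) (hpS : ∀ r ∈ S', p ≤ r)
    (IH : ∀ (Z : Type u) [Group Z] [Finite Z],
      (¬ ∃ E : Subgroup Z, Nat.card E = mS S' Z ∧ IsGood p E) →
        (kS S' Z : ℚ) ≤ (1 / p) * mS S' Z)
    (Z : Subgroup X) (hno : ¬ ∃ E : Subgroup X, E ≤ Z ∧ IsGood p E ∧ Nat.card E = mS S' X) :
    (kS S' Z : ℚ) ≤ (1 / p) * mS S' X := by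
  have hp0 : (0 : ℚ) < p := by exact_mod_cast (by omega : 0 < p)
  by_cases h : ∃ E : Subgroup Z, Nat.card E = mS S' Z ∧ IsGood p E
  · obtain ⟨E, hE, hgood⟩ := h
    have hne : mS S' Z ≠ mS S' X := by
      intro heq
      apply hno
      refine ⟨E.map Z.subtype, ?_, isGood_map hgood, ?_⟩
      · rintro _ ⟨x, -, rfl⟩
        exact x.2
      · rw [← heq, ← hE]
        exact (Nat.card_congr (Subgroup.equivMapOfInjective E Z.subtype
          Subtype.val_injective).toEquiv).symm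
    have h1 := mul_le_mS_of_dvd_of_ne hS' hpS (mS_sub_dvd S' Z) hne
    have h2 := kS_le_mS S' Z hS'
    have h3 : (kS S' Z : ℚ) ≤ mS S' X / p := by
      rw [le_div_iff₀ hp0, mul_comm]
      have : p * kS S' Z ≤ mS S' X := (Nat.mul_le_mul_left p h2).trans h1
      exact_mod_cast this
    calc (kS S' Z : ℚ) ≤ mS S' X / p := h3
      _ = 1 / p * mS S' X := by ring
  · have h1 := IH Z h
    refine h1.trans (mul_le_mul_of_nonneg_left ?_ (by positivity))
    exact_mod_cast mS_le_of_sub S' hS' Z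

/-- The main bound: if `X` has no nilpotent Hall `S`-subgroup with derived subgroup of order at
most `p`, then the number of classes of `S`-elements is at most `|X|_S / p`. -/
theorem kS_bound_nil (S : Finset ℕ) : (∀ r ∈ S, r.Prime) → ∀ p : ℕ, p.Prime → (∀ r ∈ S, p ≤ r) →
    ∀ (X : Type u) [Group X] [Finite X],
      (¬ ∃ H : Subgroup X, Nat.card H = mS S X ∧ IsGood p H) →
      (kS S X : ℚ) ≤ (1 / p) * mS S X := by
  classical
  induction S using Finset.induction_on_max with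
  | empty =>
    intro _ p hpp _ X _ _ hno
    exfalso
    apply hno
    refine ⟨⊥, by rw [mS_empty]; simp, isGood_of_isAb hpp.one_le ?_⟩
    intro a ha b hb
    rw [Subgroup.mem_bot.mp ha, Subgroup.mem_bot.mp hb]
  | insert q S' hlt IH =>
    intro hS p hpp hpS X _ _ hno
    have hq : q ∉ S' := fun h => lt_irrefl _ (hlt q h)
    have hqp : q.Prime := hS q (Finset.mem_insert_self _ _)
    haveI : Fact q.Prime := ⟨hqp⟩
    have hS' : ∀ r ∈ S', r.Prime := fun r hr => hS r (Finset.mem_insert_of_mem hr)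
    have hpS' : ∀ r ∈ S', p ≤ r := fun r hr => hpS r (Finset.mem_insert_of_mem hr)
    have hpq : p ≤ q := hpS q (Finset.mem_insert_self _ _)
    have hp : 2 ≤ p := hpp.two_le
    have IH' := IH hS' p hpp hpS'
    have hm0 : (0 : ℚ) ≤ mS S' X := by positivity
    have hp0 : (0 : ℚ) < p := by exact_mod_cast hpp.pos
    obtain ⟨Q₀⟩ : Nonempty (Sylow q X) := inferInstance
    have hQ₀c : Nat.card Q₀ = q ^ (Nat.card X).factorization q := by
      rw [Sylow.card_eq_multiplicity]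
    have hmS : (mS (insert q S') X : ℚ) = (Nat.card Q₀ : ℚ) * mS S' X := by
      rw [mS_insert q S' hq, hQ₀c]
      push_cast
      rfl
    -- summing over representatives of `q`-classes
    have hreps : ∀ (Q : Sylow q X) (c : ℚ) (Y : Finset X), (Y.card : ℚ) ≤ c * Nat.card Q₀ →
        (∀ u ∈ (Q : Subgroup X), ∃ y ∈ Y, IsConj u y) → c ≤ 1 / p →
        (kS (insert q S') X : ℚ) ≤ (1 / p) * mS (insert q S') X := by
      intro Q c Y hYcard hYcov hc
      have hsum := kS_le_sum (insert q S') {q} S' Y (dec_q q S') (by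
        intro a ha
        obtain ⟨g, hg⟩ := exists_conj_mem_sylow Q ha
        obtain ⟨y, hy, hc⟩ := hYcov _ hg
        exact ⟨y, hy, (isConj_iff.mpr ⟨g, rfl⟩).trans hc⟩)
      have hle : ∑ y ∈ Y, kS S' (Subgroup.centralizer ({y} : Set X)) ≤ Y.card * mS S' X := by
        rw [← smul_eq_mul]
        apply Finset.sum_le_card_nsmul
        intro y _
        exact (kS_le_mS S' _ hS').trans (mS_le_of_sub S' hS' _)
      have h1 : (kS (insert q S') X : ℚ) ≤ Y.card * mS S' X := by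
        exact_mod_cast hsum.trans hle
      rw [hmS]
      calc (kS (insert q S') X : ℚ) ≤ Y.card * mS S' X := h1
        _ ≤ (c * Nat.card Q₀) * mS S' X := mul_le_mul_of_nonneg_right hYcard hm0
        _ ≤ ((1 / p) * Nat.card Q₀) * mS S' X := by
            apply mul_le_mul_of_nonneg_right _ hm0
            apply mul_le_mul_of_nonneg_right hc
            positivity
        _ = _ := by ring
    have hQc : ∀ Q : Sylow q X, (Nat.card Q : ℚ) = Nat.card Q₀ := by
      intro Q
      rw [card_sylow_eq_mS, card_sylow_eq_mS]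
    by_cases hQab : ∀ Q : Sylow q X, IsAb (Q : Subgroup X)
    swap
    · -- a nonabelian Sylow `q`-subgroup
      push Not at hQab
      obtain ⟨Q, hna⟩ := hQab
      by_cases hlt' : p + 1 ≤ q
      · obtain ⟨Y, hYcard, hYcov⟩ :=
          exists_reps_nonabelian hqp (Q : Subgroup X) Q.isPGroup' hna
        rw [hQc] at hYcard
        exact hreps Q (cp q) Y hYcard hYcov (cp_le_inv hp hlt')
      · have hqe : q = p := by omega
        have hSe : S' = ∅ := by
          apply Finset.eq_empty_of_forall_notMem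
          intro r hr
          have h1 := hlt r hr
          have h2 := hpS' r hr
          omega
        have hcardQ : Nat.card Q = mS (insert q S') X := by
          rw [hSe, card_sylow_eq_mS]
          simp
        have hnil : Group.IsNilpotent (Q : Subgroup X) := Q.isPGroup'.isNilpotent
        have hbig : ¬ Nat.card (⁅(Q : Subgroup X), (Q : Subgroup X)⁆ : Subgroup X) ≤ p :=
          fun h => hno ⟨Q, hcardQ, hnil, h⟩
        rw [← card_commutator_eq] at hbig
        have hp2 : q ^ 2 ≤ Nat.card (commutator (Q : Subgroup X)) := by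
          obtain ⟨j, hj⟩ := IsPGroup.iff_card.mp (Q.isPGroup'.to_subgroup (commutator (Q : Subgroup X)))
          rw [hj] at hbig ⊢
          apply Nat.pow_le_pow_right hqp.pos
          by_contra hj2
          apply hbig
          have hj1 : j ≤ 1 := by omega
          calc q ^ j ≤ q ^ 1 := Nat.pow_le_pow_right hqp.pos hj1
            _ = p := by rw [pow_one, hqe]
        have h3 := mul_card_conjClasses_le hqp Q.isPGroup' hp2
        have h4 : (Nat.card (ConjClasses (Q : Subgroup X)) : ℚ) ≤ (1 / p) * Nat.card Q₀ := by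
          rw [← hQc Q, ← hqe]
          have hq0 : (0 : ℚ) < q := by exact_mod_cast hqp.pos
          have h5 : (q : ℚ) * Nat.card (ConjClasses (Q : Subgroup X)) ≤ Nat.card Q := by
            exact_mod_cast h3
          rw [one_div, inv_mul_eq_div, le_div_iff₀ hq0, mul_comm]
          exact h5
        obtain ⟨Y, hYcard, hYcov⟩ := exists_reps_of_le h4
        exact hreps Q (1 / p) Y hYcard hYcov le_rfl
    by_cases hE : ∃ E : Subgroup X, IsGood p E ∧ Nat.card E = mS S' X
    swap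
    · -- no good subgroup of order `m'`
      have hsum := kS_le_sum (insert q S') {q} S' (fs (Q₀ : Subgroup X)) (dec_q q S') (by
        intro a ha
        obtain ⟨g, hg⟩ := exists_conj_mem_sylow Q₀ ha
        exact ⟨_, mem_fs.mpr hg, isConj_iff.mpr ⟨g, rfl⟩⟩)
      have hsum' : (kS (insert q S') X : ℚ) ≤
          ∑ y ∈ fs (Q₀ : Subgroup X), (kS S' (Subgroup.centralizer ({y} : Set X)) : ℚ) := by
        exact_mod_cast hsum
      have hle : ∑ y ∈ fs (Q₀ : Subgroup X), (kS S' (Subgroup.centralizer ({y} : Set X)) : ℚ) ≤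
          ∑ _y ∈ fs (Q₀ : Subgroup X), (1 / (p : ℚ)) * mS S' X := by
        apply Finset.sum_le_sum
        intro y _
        apply term_le_inv hS' hp hpS' IH'
        rintro ⟨E, -, hE₁, hE₂⟩
        exact hE ⟨E, hE₁, hE₂⟩
      rw [Finset.sum_const, card_fs, nsmul_eq_mul] at hle
      rw [hmS]
      calc (kS (insert q S') X : ℚ) ≤ _ := hsum'.trans hle
        _ = _ := by ring
    obtain ⟨E, hgE, hcardE⟩ := hE
    have hnc : ∀ E : Subgroup X, IsGood p E → Nat.card E = mS S' X → ∀ Q : Sylow q X,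
        ¬ ∀ a ∈ E, ∀ b ∈ (Q : Subgroup X), a * b = b * a := by
      intro E hgE hcardE Q hcomm
      obtain ⟨H, hH₁, hH₂⟩ := exists_good_of_commute hq hS' hgE (hQab Q) hcardE
        (card_sylow_eq_mS Q) hcomm
      exact hno ⟨H, hH₁, hH₂⟩
    have hne : S'.Nonempty := by
      rw [Finset.nonempty_iff_ne_empty]
      rintro rfl
      apply hnc E hgE hcardE Q₀
      intro a ha b _
      rw [mS_empty] at hcardE
      have h1 : E = ⊥ := (Subgroup.card_eq_one).mp hcardE
      rw [h1, Subgroup.mem_bot] at ha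
      rw [ha, one_mul, mul_one]
    obtain ⟨r₀, hr₀⟩ := hne
    have hpq' : p + 1 ≤ q := by
      have h1 := hpS' r₀ hr₀
      have h2 := hlt r₀ hr₀
      omega
    have hmI : (0 : ℚ) ≤ mS (insert q S') X := by positivity
    have hq0 : (0 : ℚ) < q := by exact_mod_cast hqp.pos
    by_cases hQN : ∃ Q : Sylow q X, Subgroup.normalizer ((Q : Subgroup X) : Set X) ≤
        Subgroup.centralizer ((Q : Subgroup X) : Set X)
    · obtain ⟨Q, hQ⟩ := hQN
      obtain ⟨K, hKn, hKq, hKq'⟩ := exists_complement_of_sylow Q hQ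
      haveI := hKn
      refine (case_iN hS' hq hgE.1 hcardE hQab hKq hKq' (hnc E hgE hcardE)).trans ?_
      apply mul_le_mul_of_nonneg_right _ hmI
      apply one_div_le_one_div_of_le hp0
      exact_mod_cast hpq
    have hWQ : ∀ Q : Sylow q X, ¬ Subgroup.normalizer ((Q : Subgroup X) : Set X) ≤
        Subgroup.centralizer ((Q : Subgroup X) : Set X) := fun Q h => hQN ⟨Q, h⟩
    by_cases hE' : ∃ E' : Subgroup X, IsGood p E' ∧ Nat.card E' = mS S' X ∧
        ¬ Subgroup.normalizer (E' : Set X) ≤ Subgroup.centralizer (E' : Set X)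
    · obtain ⟨E', hgE', hcardE', hW'⟩ := hE'
      refine case_iiiN hS' hp hpS' hq hpq' hgE'.1 hcardE' hQab hWQ hW' (hnc E' hgE' hcardE') ?_
      intro Z hZ
      apply term_le_inv hS' hp hpS' IH'
      rintro ⟨E₂, h1, -, h3⟩
      exact hZ ⟨E₂, h1, h3⟩
    · have hWall : ∀ E' : Subgroup X, IsGood p E' → Nat.card E' = mS S' X →
          Subgroup.normalizer (E' : Set X) ≤ Subgroup.centralizer (E' : Set X) := by
        intro E' h1 h2
        by_contra h3
        exact hE' ⟨E', h1, h2, h3⟩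
      have habE : IsAb E := isAb_of_normalizer_le_centralizer (hWall E hgE hcardE)
      obtain ⟨E₁, habE₁, hcardE₁, hE₁N⟩ := exists_abelian_hall_normalizing hS' hq habE hcardE
        (hWall E hgE hcardE) Q₀ (hQab Q₀)
      have hgE₁ : IsGood p E₁ := isGood_of_isAb hpp.one_le habE₁
      refine (case_ii_aux hS' hp hpS' hq hpq habE₁ hcardE₁ (hWall E₁ hgE₁ hcardE₁) Q₀ (hQab Q₀)
        hE₁N (hnc E₁ hgE₁ hcardE₁ Q₀)).trans ?_
      apply mul_le_mul_of_nonneg_right _ hmI
      exact num_iiN (by exact_mod_cast hp) (by exact_mod_cast hpq')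

/-- The statement in the form of the frozen statement. -/
theorem exists_nilpotent_hall {G : Type u} [Group G] [Finite G]
    (π : Set ℕ) (hπ : ∀ q ∈ π, q.Prime) (p : ℕ) (hp : p ∈ π) (hmin : ∀ q ∈ π, p ≤ q)
    (m : ℕ) (hm : m ∣ Nat.card G) (hmπ : ∀ q : ℕ, q.Prime → q ∣ m → q ∈ π)
    (hm' : ∀ q ∈ π, ¬ q ∣ Nat.card G / m)
    (k : ℕ)
    (hk : k = Nat.card {C : ConjClasses G // ∀ q : ℕ, q.Prime →
      (∃ g : G, ConjClasses.mk g = C ∧ q ∣ orderOf g) → q ∈ π})
    (hmany : m < p * k) :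
    ∃ H : Subgroup G, Nat.card H = m ∧ Group.IsNilpotent H ∧ Nat.card (commutator H) ≤ p := by
  classical
  set S : Finset ℕ := (Nat.card G).primeFactors.filter (· ∈ π) with hSdef
  have hS : ∀ r ∈ S, r.Prime := fun r hr => hπ r (Finset.mem_filter.mp hr).2
  have hpS : ∀ r ∈ S, p ≤ r := fun r hr => hmin r (Finset.mem_filter.mp hr).2
  have hpp := hπ p hp
  have hcardG : Nat.card G ≠ 0 := Nat.card_pos.ne'
  obtain ⟨c, hc⟩ := hm
  have hm0 : m ≠ 0 := by
    rintro rfl
    simp at hc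
    exact hcardG hc
  have hdiv : Nat.card G / m = c := by
    rw [hc]
    exact Nat.mul_div_cancel_left c (Nat.pos_of_ne_zero hm0)
  have hmS : m = mS S G := by
    apply Nat.eq_of_factorization_eq hm0 (mS_pos S hS G).ne'
    intro r
    by_cases hr : r ∈ S
    · rw [factorization_mS_of_mem hS G hr]
      have hc0 : c ≠ 0 := by
        rintro rfl
        exact hcardG (by rw [hc, mul_zero])
      have hrπ : r ∈ π := (Finset.mem_filter.mp hr).2
      have hnd : ¬ r ∣ c := by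
        have := hm' r hrπ
        rwa [hdiv] at this
      rw [hc, Nat.factorization_mul hm0 hc0, Finsupp.add_apply,
        Nat.factorization_eq_zero_of_not_dvd hnd, add_zero]
    · have h1 : (mS S G).factorization r = 0 := by
        by_cases hrp : r.Prime
        · apply Nat.factorization_eq_zero_of_not_dvd
          intro h
          exact hr (mem_of_prime_dvd_mS hS hrp h)
        · exact Nat.factorization_eq_zero_of_not_prime _ hrp
      rw [h1]
      by_cases hrp : r.Prime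
      · apply Nat.factorization_eq_zero_of_not_dvd
        intro h
        apply hr
        refine Finset.mem_filter.mpr ⟨Nat.mem_primeFactors.mpr ⟨hrp, ?_, hcardG⟩, hmπ r hrp h⟩
        rw [hc]
        exact h.trans (dvd_mul_right _ _)
      · exact Nat.factorization_eq_zero_of_not_prime _ hrp
  have hkle : k ≤ kS S G := by
    rw [hk]
    unfold kS
    apply Nat.card_le_card_of_injective
      (fun C : {C : ConjClasses G // ∀ q : ℕ, q.Prime →
        (∃ g : G, ConjClasses.mk g = C ∧ q ∣ orderOf g) → q ∈ π} =>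
        (⟨C.1, by
          obtain ⟨x, hx⟩ := ConjClasses.mk_surjective C.1
          refine ⟨x, hx, ?_⟩
          intro r hr hd
          refine Finset.mem_filter.mpr ⟨Nat.mem_primeFactors.mpr ⟨hr, ?_, hcardG⟩,
            C.2 r hr ⟨x, hx, hd⟩⟩
          exact hd.trans (orderOf_dvd_natCard x)⟩ :
          {C : ConjClasses G // ∃ x : G, ConjClasses.mk x = C ∧ IsSElt S x}))
    intro a b hab
    exact Subtype.ext (congrArg (fun z => z.1) hab)
  by_contra hnone
  have hbound := kS_bound_nil S hS p hpp hpS G (by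
    rintro ⟨H, h1, h2⟩
    exact hnone ⟨H, hmS.symm ▸ h1, h2.1, by rw [card_commutator_eq]; exact h2.2⟩)
  rw [← hmS] at hbound
  have hp0 : (0 : ℚ) < p := by exact_mod_cast hpp.pos
  have h1 : (k : ℚ) ≤ (1 / p) * m := by
    refine le_trans ?_ hbound
    exact_mod_cast hkle
  have h3 : (m : ℚ) < (p : ℚ) * k := by exact_mod_cast hmany
  have h4 : (p : ℚ) * k ≤ (p : ℚ) * ((1 / p) * m) := mul_le_mul_of_nonneg_left h1 hp0.le
  have h5 : (p : ℚ) * ((1 / p) * m) = m := by
    field_simp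
  linarith

end main

end Cfsg.Agent.Lib.PiClasses
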